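import Groth.Agent.Hensel.EnvelopeHensel
import Groth.Agent.UnramLib.FlatUnram
import Mathlib.FieldTheory.IsSepClosed
import Mathlib.RingTheory.Flat.FaithfullyFlat.Algebra

/-!
# A strictly henselian point: etale stages
-/

set_option autoImplicit false
set_option linter.style.haveILetI false

universe u

open scoped TensorProduct
open IsLocalRing Groth.Agent.Hensel

namespace Groth.Agent.InvQuotSp

/-- A strictly henselian local algebra, flat over the base, with etale stages, and a point in a field. -/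
structure StrictPt (B : Type u) [CommRing B] (Ω : Type u) [Field Ω] [Algebra B Ω] where
  C : Type u
  [commRing : CommRing C]
  [algebra : Algebra B C]
  [henselian : HenselianLocalRing C]
  [flat : Module.Flat B C]
  [sepClosed : IsSepClosed (ResidueField C)]
  pt : C →ₐ[B] Ω
  pt_eq_zero : ∀ z, pt z = 0 ↔ z ∈ maximalIdeal C
  exists_stage : ∀ {n : ℕ} (c : Fin n → C), ∃ (E : Type u) (_ : CommRing E) (_ : Algebra B E)
    (_ : Algebra.Etale B E) (θ : E →ₐ[B] C), ∀ k, ∃ e, θ e = c k

attribute [instance] StrictPt.commRing StrictPt.algebra StrictPt.henselian StrictPt.flat StrictPt.sepClosed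

section env

variable (B : Type u) [CommRing B] (Ω : Type u) [Field Ω] [Algebra B Ω]

theorem envRes_eq_zero (z : Env B Ω) : envRes B Ω z = 0 ↔ z ∈ maximalIdeal (Env B Ω) := by
  obtain ⟨x, s, rfl⟩ := IsLocalization.exists_mk'_eq (envPrime B Ω).primeCompl z
  have h1 := congrArg (envRes B Ω) (IsLocalization.mk'_spec (Env B Ω) x s)
  rw [map_mul, envRes_algebraMap, envRes_algebraMap] at h1
  rw [IsLocalization.AtPrime.mk'_mem_maximal_iff (Env B Ω) (envPrime B Ω) x s]
  refine ⟨fun h => ?_, fun h => ?_⟩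
  · rw [h, zero_mul] at h1
    exact h1.symm
  · rw [show envEv B Ω x = 0 from h] at h1
    exact (mul_eq_zero.1 h1).resolve_right s.2

theorem env_hloc (z : Env B Ω) : ∃ x t, IsUnit (IsScalarTower.toAlgHom B (EnvTop B Ω) (Env B Ω) t) ∧
    z * IsScalarTower.toAlgHom B (EnvTop B Ω) (Env B Ω) t = IsScalarTower.toAlgHom B (EnvTop B Ω) (Env B Ω) x := by
  obtain ⟨x, s, rfl⟩ := IsLocalization.exists_mk'_eq (envPrime B Ω).primeCompl z
  exact ⟨x, s.1, IsLocalization.map_units _ s, IsLocalization.mk'_spec (Env B Ω) x s⟩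

/-- finitely many elements of the envelope come from an etale algebra -/
theorem env_exists_stage {n : ℕ} (c : Fin n → Env B Ω) : ∃ (E : Type u) (_ : CommRing E) (_ : Algebra B E)
    (_ : Algebra.Etale B E) (θ : E →ₐ[B] Env B Ω), ∀ k, ∃ e, θ e = c k := by
  classical
  let ι := IsScalarTower.toAlgHom B (EnvTop B Ω) (Env B Ω)
  choose x t ht hxt using fun k => env_hloc B Ω (c k)
  choose Fx zx hzx using fun k => exists_etMap_eq (P := envPairs B Ω) (x k)
  choose Ft zt hzt using fun k => exists_etMap_eq (P := envPairs B Ω) (t k)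
  let F : Finset (EnvIdx B Ω) := Finset.univ.biUnion fun k => Fx k ∪ Ft k
  have hFx : ∀ k, Fx k ⊆ F := fun k =>
    Finset.subset_union_left.trans (Finset.subset_biUnion_of_mem (fun k => Fx k ∪ Ft k) (Finset.mem_univ k))
  have hFt : ∀ k, Ft k ⊆ F := fun k =>
    Finset.subset_union_right.trans (Finset.subset_biUnion_of_mem (fun k => Fx k ∪ Ft k) (Finset.mem_univ k))
  let A := EtProd (envPairs B Ω ∘ ((↑) : F → EnvIdx B Ω))
  let inc : A →ₐ[B] Env B Ω := ι.comp (etMap (P := envPairs B Ω) ((↑) : F → EnvIdx B Ω))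
  let x' : Fin n → A := fun k =>
    etMap (P := envPairs B Ω ∘ ((↑) : F → EnvIdx B Ω)) (fun j : Fx k => (⟨j.1, hFx k j.2⟩ : F)) (zx k)
  let t' : Fin n → A := fun k =>
    etMap (P := envPairs B Ω ∘ ((↑) : F → EnvIdx B Ω)) (fun j : Ft k => (⟨j.1, hFt k j.2⟩ : F)) (zt k)
  have hx' : ∀ k, inc (x' k) = ι (x k) := fun k => by
    rw [← hzx k]
    exact congrArg ι (AlgHom.congr_fun
      (etMap_comp (P := envPairs B Ω) ((↑) : F → EnvIdx B Ω) fun j : Fx k => (⟨j.1, hFx k j.2⟩ : F)) (zx k))
  have ht' : ∀ k, inc (t' k) = ι (t k) := fun k => by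
    rw [← hzt k]
    exact congrArg ι (AlgHom.congr_fun
      (etMap_comp (P := envPairs B Ω) ((↑) : F → EnvIdx B Ω) fun j : Ft k => (⟨j.1, hFt k j.2⟩ : F)) (zt k))
  haveI : Algebra.Etale B A := etale_etProd
  have hT₀ : IsUnit (inc (∏ k, t' k)) := by
    rw [map_prod]
    exact IsUnit.prod_univ_iff.2 fun k => by rw [ht']; exact ht k
  let E := Localization.Away (∏ k, t' k)
  haveI : Algebra.Etale B E := inferInstance
  let θ : E →ₐ[B] Env B Ω := IsLocalization.Away.liftAlgHom (∏ k, t' k) (f := inc) hT₀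
  have hθ : ∀ a, θ (algebraMap A E a) = inc a := fun a => IsLocalization.Away.lift_eq (∏ k, t' k) hT₀ a
  refine ⟨E, inferInstance, inferInstance, inferInstance, θ, fun k => ?_⟩
  have hu : IsUnit (algebraMap A E (t' k)) :=
    isUnit_of_dvd_unit (map_dvd (algebraMap A E) (Finset.dvd_prod_of_mem t' (Finset.mem_univ k)))
      (IsLocalization.Away.algebraMap_isUnit (∏ k, t' k))
  refine ⟨algebraMap A E (x' k) * ↑hu.unit⁻¹, (ht k).mul_left_injective ?_⟩
  show θ (algebraMap A E (x' k) * ↑hu.unit⁻¹) * ι (t k) = c k * ι (t k)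
  rw [hxt k, ← ht', ← hθ, ← map_mul, mul_assoc, IsUnit.val_inv_mul, mul_one, hθ, hx']

/-- points of etale algebras lift to the envelope -/
theorem env_exists_lift (E : Type u) [CommRing E] [Algebra B E] [Algebra.Etale B E] (ev : E →ₐ[B] Ω) :
    ∃ φ : E →ₐ[B] Env B Ω, ∀ e, envRes B Ω (φ e) = ev e := by
  haveI : (RingHom.ker ev.toRingHom).IsPrime := RingHom.ker_isPrime _
  haveI : Algebra.IsEtaleAt B (RingHom.ker ev.toRingHom) :=
    haveI : Algebra.FormallyEtale E (Localization.AtPrime (RingHom.ker ev.toRingHom)) :=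
      Algebra.FormallyEtale.of_isLocalization (RingHom.ker ev.toRingHom).primeCompl
    Algebra.FormallyEtale.comp B E _
  obtain ⟨h, hh, hstd⟩ := Algebra.IsEtaleAt.exists_isStandardEtale (R := B) (RingHom.ker ev.toRingHom)
  obtain ⟨pr⟩ := hstd.nonempty_standardEtalePresentation
  have hevh : IsUnit (ev h) := isUnit_iff_ne_zero.2 hh
  let ev₃ : Localization.Away h →ₐ[B] Ω := IsLocalization.Away.liftAlgHom h (f := ev) hevh
  let i : EnvIdx B Ω := ⟨pr.P, ev₃ pr.x, pr.hasMap.map ev₃⟩
  let φ₃ : Localization.Away h →ₐ[B] Env B Ω :=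
    (pr.P.lift (envPt B Ω i) (hasMap_envPt B Ω i)).comp pr.equivRing.toAlgHom
  have hφ₃ : (envRes B Ω).comp φ₃ = ev₃ := pr.hom_ext (by
    change envRes B Ω (pr.P.lift _ (hasMap_envPt B Ω i) (pr.equivRing pr.x)) = _
    rw [pr.equivRing_x, StandardEtalePair.lift_X, envRes_envPt])
  exact ⟨φ₃.comp (IsScalarTower.toAlgHom B E (Localization.Away h)),
    fun e => (AlgHom.congr_fun hφ₃ (algebraMap E _ e)).trans (IsLocalization.Away.lift_eq h hevh e)⟩

/-- simple roots of monic polynomials over etale stages are residues -/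
theorem env_exists_root (E : Type u) [CommRing E] [Algebra B E] [Algebra.Etale B E] [Algebra E Ω]
    [IsScalarTower B E Ω] (f : Polynomial E) (hf : f.Monic) (α : Ω) (h0 : Polynomial.aeval α f = 0)
    (h1 : Polynomial.aeval α (Polynomial.derivative f) ≠ 0) : ∃ z : Env B Ω, envRes B Ω z = α := by
  let P : StandardEtalePair E := ⟨f, hf, Polynomial.derivative f, 1, 0, 1, by ring⟩
  have hP : P.HasMap α := ⟨h0, isUnit_iff_ne_zero.2 h1⟩
  letI : Algebra B P.Ring := ((algebraMap E P.Ring).comp (algebraMap B E)).toAlgebra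
  haveI : IsScalarTower B E P.Ring := IsScalarTower.of_algebraMap_eq' rfl
  haveI : Algebra.Etale B P.Ring := Algebra.Etale.comp B E P.Ring
  obtain ⟨φ, hφ⟩ := env_exists_lift B Ω P.Ring ((P.lift α hP).restrictScalars B)
  exact ⟨φ P.X, (hφ P.X).trans (StandardEtalePair.lift_X P α hP)⟩

/-- monic polynomials with coefficients in the residue field come from etale stages -/
theorem env_exists_poly (p : Polynomial (ResidueField (Env B Ω))) (hp : p.Monic) :
    ∃ (E : Type u) (_ : CommRing E) (_ : Algebra B E) (_ : Algebra.Etale B E) (θ : E →ₐ[B] Env B Ω)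
      (f : Polynomial E), f.Monic ∧ f.map ((residue (Env B Ω)).comp θ.toRingHom) = p := by
  choose c hc using fun k : Fin p.natDegree => residue_surjective (p.coeff k)
  obtain ⟨E, _, _, _, θ, hθ⟩ := env_exists_stage B Ω c
  choose e he using hθ
  refine ⟨E, inferInstance, inferInstance, inferInstance, θ,
    Polynomial.X ^ p.natDegree + ∑ k : Fin p.natDegree, Polynomial.C (e k) * Polynomial.X ^ (k : ℕ),
    Polynomial.monic_X_pow_add (Polynomial.degree_sum_fin_lt e), ?_⟩
  conv_rhs => rw [hp.as_sum]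
  simp only [Polynomial.map_add, Polynomial.map_pow, Polynomial.map_X, Polynomial.map_sum,
    Polynomial.map_mul, Polynomial.map_C]
  rw [← Fin.sum_univ_eq_sum_range (fun k => Polynomial.C (p.coeff k) * Polynomial.X ^ k)]
  congr 1
  exact Finset.sum_congr rfl fun k _ => by rw [← hc k, ← he k]; rfl

omit [Algebra B Ω] in
/-- criterion for a separably closed residue field -/
theorem isSepClosed_of_lifts [IsAlgClosed Ω] (C : Type u) [CommRing C] [IsLocalRing C] (π : C →+* Ω)
    (hπ : ∀ z ∈ maximalIdeal C, π z = 0)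
    (H : ∀ p : Polynomial (ResidueField C), p.Monic → ∀ (j : ResidueField C →+* Ω), (∀ z, j (residue C z) = π z) →
      ∀ α : Ω, (p.map j).eval α = 0 → (Polynomial.derivative (p.map j)).eval α ≠ 0 → ∃ z, π z = α) :
    IsSepClosed (ResidueField C) := by
  refine IsSepClosed.of_exists_root _ fun p hp hirr hsep => ?_
  let j : ResidueField C →+* Ω := Ideal.Quotient.lift (maximalIdeal C) π hπ
  have hj : ∀ z, j (residue _ z) = π z := fun z => Ideal.Quotient.lift_mk _ _ _
  obtain ⟨α, hα⟩ := IsAlgClosed.exists_root (p.map j)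
    (by rw [Polynomial.degree_map]; exact (Polynomial.degree_pos_of_irreducible hirr).ne')
  have hd : (Polynomial.derivative (p.map j)).eval α ≠ 0 :=
    (Polynomial.Separable.map hsep).eval₂_derivative_ne_zero (RingHom.id Ω) hα
  obtain ⟨z, hz⟩ := H p hp j hj α hα hd
  refine ⟨residue _ z, j.injective ?_⟩
  rw [map_zero, ← Polynomial.eval_map_apply, hj, hz]
  exact hα

/-- the residue field of the envelope of an algebraically closed field point is separably closed -/
theorem env_isSepClosed [IsAlgClosed Ω] : IsSepClosed (ResidueField (Env B Ω)) := by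
  refine isSepClosed_of_lifts Ω (Env B Ω) (envRes B Ω).toRingHom (fun z hz => (envRes_eq_zero B Ω z).2 hz)
    fun p hp j hj α hα hd => ?_
  obtain ⟨E, _, _, _, θ, f, hf, hmap⟩ := env_exists_poly B Ω p hp
  letI : Algebra E Ω := ((envRes B Ω).comp θ).toRingHom.toAlgebra
  haveI : IsScalarTower B E Ω := IsScalarTower.of_algebraMap_eq fun r => (((envRes B Ω).comp θ).commutes r).symm
  have hjθ : algebraMap E Ω = j.comp ((residue (Env B Ω)).comp θ.toRingHom) :=
    RingHom.ext fun x => (hj (θ x)).symm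
  have heval : ∀ q : Polynomial E, Polynomial.aeval α q =
      ((q.map ((residue (Env B Ω)).comp θ.toRingHom)).map j).eval α := fun q => by
    rw [Polynomial.map_map, Polynomial.eval_map, ← hjθ, Polynomial.aeval_def]
  exact env_exists_root B Ω E f hf α (by rw [heval, hmap]; exact hα)
    (by rw [heval, ← Polynomial.derivative_map, hmap, ← Polynomial.derivative_map]; exact hd)

/-- the envelope as a strictly henselian point -/
theorem exists_strictPt [IsAlgClosed Ω] : Nonempty (StrictPt B Ω) :=
  haveI := henselian_of_points (S := Env B Ω) B Ω (envRes B Ω) (envRes_eq_zero B Ω)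
    (IsScalarTower.toAlgHom B (EnvTop B Ω) (Env B Ω)) (envRes_algebraMap B Ω) (env_hloc B Ω)
  haveI := env_isSepClosed B Ω
  haveI := flat_env B Ω
  ⟨{ C := Env B Ω, pt := envRes B Ω, pt_eq_zero := envRes_eq_zero B Ω,
      exists_stage := env_exists_stage B Ω }⟩

end env

variable {B : Type u} [CommRing B] {Ω : Type u} [Field Ω] [Algebra B Ω] (s : StrictPt B Ω)

theorem StrictPt.ker_pt : RingHom.ker s.pt.toRingHom = maximalIdeal s.C :=
  Ideal.ext fun z => s.pt_eq_zero z

/-- elements of modules over etale stages killed in the strictly henselian ring are killed near the point -/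
theorem StrictPt.exists_smul_eq_zero (E : Type u) [CommRing E] [Algebra B E] [Algebra.Etale B E]
    [Algebra E s.C] [IsScalarTower B E s.C] (M : Type u) [AddCommGroup M] [Module E M] (y : M)
    (hy : (1 : s.C) ⊗ₜ[E] y = 0) : ∃ f : E, IsUnit (algebraMap E s.C f) ∧ f • y = 0 := by
  let p : Ideal E := (maximalIdeal s.C).comap (algebraMap E s.C)
  let T := Localization.AtPrime p
  haveI : Algebra.FormallyUnramified B T :=
    haveI : Algebra.FormallyUnramified E T := Algebra.FormallyUnramified.of_isLocalization p.primeCompl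
    Algebra.FormallyUnramified.comp B E T
  haveI : Algebra.EssFiniteType B T :=
    haveI : Algebra.EssFiniteType E T := Algebra.EssFiniteType.of_isLocalization T p.primeCompl
    Algebra.EssFiniteType.comp B E T
  let χ : T →ₐ[E] s.C := IsLocalization.liftAlgHom (M := p.primeCompl) (f := Algebra.ofId E s.C) fun u =>
    notMem_maximalIdeal.1 u.2
  letI : Algebra T s.C := χ.toRingHom.toAlgebra
  haveI : IsScalarTower E T s.C := IsScalarTower.of_algebraMap_eq fun r => (χ.commutes r).symm
  haveI : IsScalarTower B T s.C := IsScalarTower.of_algebraMap_eq fun r => by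
    rw [IsScalarTower.algebraMap_apply B E T, ← IsScalarTower.algebraMap_apply E T s.C,
      ← IsScalarTower.algebraMap_apply B E s.C]
  haveI : Module.Flat T s.C := UnramLib.flat_of_formallyUnramified B T s.C
  haveI : IsLocalHom (algebraMap T s.C) := ⟨fun w hw => by
    obtain ⟨b, u, rfl⟩ := IsLocalization.exists_mk'_eq p.primeCompl w
    refine (IsLocalization.AtPrime.isUnit_mk'_iff T p b u).2 fun hb => ?_
    have h2 := congrArg (algebraMap T s.C) (IsLocalization.mk'_spec T b u)
    rw [map_mul, ← IsScalarTower.algebraMap_apply, ← IsScalarTower.algebraMap_apply] at h2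
    exact notMem_maximalIdeal.2 (h2 ▸ IsUnit.mul hw (notMem_maximalIdeal.1 u.2)) hb⟩
  haveI : Module.FaithfullyFlat T s.C := Module.FaithfullyFlat.of_flat_of_isLocalHom
  have h1 : TensorProduct.mk T s.C (T ⊗[E] M) 1 ((1 : T) ⊗ₜ[E] y) = 0 := by
    apply (TensorProduct.AlgebraTensorModule.cancelBaseChange E T T s.C M).injective
    rw [map_zero, TensorProduct.mk_apply, TensorProduct.AlgebraTensorModule.cancelBaseChange_tmul, one_smul, hy]
  have h2 : (1 : T) ⊗ₜ[E] y = 0 :=
    Module.FaithfullyFlat.tensorProduct_mk_injective (A := T) (B := s.C) _ (h1.trans (map_zero _).symm)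
  obtain ⟨c, hc⟩ := (IsLocalizedModule.eq_zero_iff p.primeCompl (TensorProduct.mk E T M 1)).1 h2
  exact ⟨c.1, notMem_maximalIdeal.1 c.2, hc⟩

end Groth.Agent.InvQuotSp
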