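import Groth.Agent.AlgSpLib.Space
import Groth.Agent.AlgSpLib.SheafLemmas
import Mathlib.AlgebraicGeometry.Morphisms.Etale

/-!
# Agreement loci of maps into etale charts
-/

set_option autoImplicit false
set_option backward.isDefEq.respectTransparency false
set_option linter.style.haveILetI false

universe u

open CategoryTheory CategoryTheory.Limits AlgebraicGeometry Opposite

namespace Groth.Agent.InvQuotSp

open _root_.AlgSp Groth.Agent.AlgSpLib

variable {S : Scheme.{u}}

/-- two maps into an etale chart with the same composite agree on an open subset containing all points where they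
agree after composition with some map -/
theorem exists_agree_open {N : Sp S} {Z T : Over S} {p : (yon S).obj Z ⟶ N} (hp : RepWith @Etale p) (a b : T ⟶ Z)
    (h : (yon S).map a ≫ p = (yon S).map b ≫ p) :
    ∃ O : T.left.Opens, O.ι ≫ a.left = O.ι ≫ b.left ∧
      ∀ {K : Scheme.{u}} (k : K ⟶ T.left), k ≫ a.left = k ≫ b.left → ∀ x, k x ∈ O := by
  obtain ⟨V, fst, snd, sq, hsnd⟩ := exists_repWith hp p
  obtain ⟨f₁, rfl⟩ := exists_map_eq fst
  haveI : Etale snd.left := hsnd
  obtain ⟨Δ, hΔ⟩ := exists_map_eq (sq.lift (𝟙 _) (𝟙 _) rfl)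
  have hΔ₁ : Δ ≫ f₁ = 𝟙 Z := (yon S).map_injective (by rw [Functor.map_comp, hΔ, sq.lift_fst, (yon S).map_id])
  have hΔ₂ : Δ ≫ snd = 𝟙 Z := (yon S).map_injective (by rw [Functor.map_comp, hΔ, sq.lift_snd, (yon S).map_id])
  have e : Δ.left ≫ snd.left = 𝟙 Z.left := congrArg (fun k => k.left) hΔ₂
  haveI : Etale (Δ.left ≫ snd.left) := by rw [e]; infer_instance
  haveI : Etale Δ.left := Etale.of_comp Δ.left snd.left
  haveI : IsSplitMono Δ.left := ⟨⟨⟨snd.left, e⟩⟩⟩
  haveI : IsOpenImmersion Δ.left := IsOpenImmersion.of_flat_of_mono Δ.left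
  obtain ⟨ab, hab⟩ := exists_map_eq (sq.lift _ _ h)
  have hab₁ : ab ≫ f₁ = a := (yon S).map_injective (by rw [Functor.map_comp, hab, sq.lift_fst])
  have hab₂ : ab ≫ snd = b := (yon S).map_injective (by rw [Functor.map_comp, hab, sq.lift_snd])
  refine ⟨ab.left ⁻¹ᵁ Δ.left.opensRange, ?_, fun {K} k hk x => ?_⟩
  · set O := ab.left ⁻¹ᵁ Δ.left.opensRange
    have hr : Set.range (O.ι ≫ ab.left) ⊆ Set.range Δ.left := by
      rintro - ⟨x, rfl⟩
      rw [Scheme.Hom.comp_apply]
      have := x.2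
      exact this
    let l := IsOpenImmersion.lift Δ.left (O.ι ≫ ab.left) hr
    have hl : l ≫ Δ.left = O.ι ≫ ab.left := IsOpenImmersion.lift_fac _ _ _
    have e₁ : Δ.left ≫ f₁.left = 𝟙 Z.left := congrArg (fun k => k.left) hΔ₁
    rw [← hab₁, ← hab₂, Over.comp_left, Over.comp_left, ← reassoc_of% hl, ← reassoc_of% hl, e, e₁]
  · show ab.left (k x) ∈ Δ.left.opensRange
    let K' : Over S := Over.mk (k ≫ T.hom)
    let k' : K' ⟶ T := Over.homMk k rfl
    have hk' : k' ≫ a = k' ≫ b := Over.OverMorphism.ext hk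
    have hcomp : k' ≫ ab = (k' ≫ a) ≫ Δ := by
      apply (yon S).map_injective
      apply sq.hom_ext
      · rw [← Functor.map_comp, ← Functor.map_comp, Category.assoc, hab₁, Category.assoc, hΔ₁, Category.comp_id]
      · rw [← Functor.map_comp, ← Functor.map_comp, Category.assoc, hab₂, Category.assoc, hΔ₂, Category.comp_id, hk']
    rw [← Scheme.Hom.comp_apply]
    rw [show k ≫ ab.left = (k ≫ a.left) ≫ Δ.left from congrArg (fun m => m.left) hcomp, Scheme.Hom.comp_apply]
    exact ⟨_, rfl⟩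

end Groth.Agent.InvQuotSp
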