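import Mathlib.RingTheory.Invariant.Basic
import Mathlib.RingTheory.Ideal.GoingUp
import Mathlib.RingTheory.Flat.Basic
import Mathlib.LinearAlgebra.TensorProduct.Pi
import Mathlib.RingTheory.TensorProduct.Maps
import Mathlib.FieldTheory.IsAlgClosed.Basic
import Mathlib.FieldTheory.PurelyInseparable.Basic
import Mathlib.RingTheory.LocalRing.ResidueField.Basic

/-!
# Finite group invariants: flat base change and geometric points
-/

set_option autoImplicit false
set_option linter.style.haveILetI false

universe u v

open TensorProduct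

namespace Groth.Agent.InvQuotSp

section points

variable {B A : Type u} [CommRing B] [CommRing A] [Algebra B A]

/-- points of the invariant ring lift to points of the ring -/
theorem exists_point_lift [Algebra.IsIntegral B A] (hinj : Function.Injective (algebraMap B A))
    {Ω : Type u} [Field Ω] [IsAlgClosed Ω] (y : B →+* Ω) :
    ∃ x : A →+* Ω, x.comp (algebraMap B A) = y := by
  haveI : (RingHom.ker y).IsPrime := RingHom.ker_isPrime y
  obtain ⟨Q, -, hQ, hQP⟩ := Ideal.exists_ideal_over_prime_of_isIntegral (S := A) (RingHom.ker y) ⊥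
    (fun b hb => by
      rw [show b = 0 from hinj ((Ideal.mem_bot.mp (Ideal.mem_comap.mp hb)).trans (map_zero _).symm)]
      exact zero_mem _)
  haveI : Q.LiesOver (RingHom.ker y) := ⟨hQP.symm⟩
  letI : Algebra (B ⧸ RingHom.ker y) Ω := (RingHom.kerLift y).toAlgebra
  haveI : FaithfulSMul (B ⧸ RingHom.ker y) Ω :=
    (faithfulSMul_iff_algebraMap_injective _ _).2 (RingHom.kerLift_injective y)
  haveI : Module.IsTorsionFree (B ⧸ RingHom.ker y) Ω := by
    rw [Module.isTorsionFree_iff_algebraMap_injective]
    exact RingHom.kerLift_injective y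
  let σ : (A ⧸ Q) →ₐ[B ⧸ RingHom.ker y] Ω := IsAlgClosed.lift
  exact ⟨σ.toRingHom.comp (Ideal.Quotient.mk Q), RingHom.ext fun b => σ.commutes (Ideal.Quotient.mk _ b)⟩

/-- points with the same restriction to the invariants are conjugate -/
theorem exists_smul_eq_of_comp_eq (G : Type v) [Group G] [Finite G] [MulSemiringAction G A]
    [Algebra.IsInvariant B A G] {Ω : Type u} [CommRing Ω] [IsDomain Ω] (x x' : A →+* Ω)
    (h : x.comp (algebraMap B A) = x'.comp (algebraMap B A)) :
    ∃ g : G, ∀ a, x' a = x (g • a) := by
  classical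
  cases nonempty_fintype G
  by_contra hne
  push Not at hne
  choose a ha using hne
  let i := Fintype.equivFin G
  let f : Polynomial A := ∑ g, Polynomial.monomial (i g : ℕ) (a g)
  have hf : ∀ g, f.coeff (i g : ℕ) = a g := fun g => by
    simp only [f, Polynomial.finsetSum_coeff, Polynomial.coeff_monomial]
    rw [Finset.sum_eq_single g (fun g' _ hg' => if_neg fun hh => hg' (i.injective (Fin.ext hh))) (by simp),
      if_pos rfl]
  let P := MulSemiringAction.charpoly G f
  have hP : P.map (Polynomial.mapRingHom x) = P.map (Polynomial.mapRingHom x') := by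
    ext n k
    rw [Polynomial.coeff_map, Polynomial.coeff_map, Polynomial.coe_mapRingHom, Polynomial.coe_mapRingHom,
      Polynomial.coeff_map, Polynomial.coeff_map]
    obtain ⟨b, hb⟩ := Algebra.IsInvariant.isInvariant (A := B) (G := G) ((P.coeff n).coeff k) fun g => by
      rw [← Polynomial.coeff_smul, MulSemiringAction.smul_coeff_charpoly]
    rw [← hb]
    exact RingHom.congr_fun h b
  have h0 := congrArg (Polynomial.eval (Polynomial.mapRingHom x' f)) hP
  have hz : ((P.map (Polynomial.mapRingHom x')).eval (Polynomial.mapRingHom x' f)) = 0 := by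
    rw [Polynomial.eval_map_apply, MulSemiringAction.eval_charpoly, map_zero]
  rw [hz] at h0
  simp only [P, MulSemiringAction.charpoly, Polynomial.map_prod, Polynomial.map_sub, Polynomial.map_X,
    Polynomial.map_C, Polynomial.eval_prod, Polynomial.eval_sub, Polynomial.eval_X, Polynomial.eval_C,
    Finset.prod_eq_zero_iff, sub_eq_zero, Finset.mem_univ, true_and] at h0
  obtain ⟨g, hg⟩ := h0
  refine ha g ?_
  have := congrArg (fun p : Polynomial Ω => p.coeff (i g : ℕ)) hg
  simp only [Polynomial.coe_mapRingHom, Polynomial.coeff_map, Polynomial.coeff_smul, hf] at this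
  exact this

/-- points with the same kernel over a separably closed residue field are equal -/
theorem point_eq_of_ker_eq {C : Type u} [CommRing C] [IsLocalRing C] [Algebra C A] [Algebra.IsIntegral C A]
    [IsSepClosed (IsLocalRing.ResidueField C)]
    {Ω : Type u} [Field Ω] [Algebra C Ω] (hπ : RingHom.ker (algebraMap C Ω) = IsLocalRing.maximalIdeal C)
    (x x' : A →ₐ[C] Ω) (h : RingHom.ker x = RingHom.ker x') : x = x' := by
  haveI : (RingHom.ker x).IsPrime := RingHom.ker_isPrime x
  let P := RingHom.ker x
  haveI : P.LiesOver (IsLocalRing.maximalIdeal C) := ⟨by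
    ext c
    rw [Ideal.under_def, Ideal.mem_comap, RingHom.mem_ker, AlgHom.commutes, ← RingHom.mem_ker, hπ]⟩
  letI : Algebra (IsLocalRing.ResidueField C) (A ⧸ P) :=
    inferInstanceAs (Algebra (C ⧸ IsLocalRing.maximalIdeal C) (A ⧸ P))
  haveI : Algebra.IsIntegral (IsLocalRing.ResidueField C) (A ⧸ P) :=
    inferInstanceAs (Algebra.IsIntegral (C ⧸ IsLocalRing.maximalIdeal C) (A ⧸ P))
  letI : Algebra (IsLocalRing.ResidueField C) Ω :=
    (Ideal.Quotient.lift (IsLocalRing.maximalIdeal C) (algebraMap C Ω) fun c hc =>
      RingHom.mem_ker.1 (hπ.symm ▸ hc)).toAlgebra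
  let lft : ∀ z : A →ₐ[C] Ω, P ≤ RingHom.ker z → ((A ⧸ P) →ₐ[IsLocalRing.ResidueField C] Ω) :=
    fun z hz =>
      { Ideal.Quotient.lift P z.toRingHom fun a ha => RingHom.mem_ker.1 (hz ha) with
        commutes' := fun c => by
          obtain ⟨c, rfl⟩ := IsLocalRing.residue_surjective c
          exact z.commutes c }
  haveI : Algebra.IsAlgebraic (IsLocalRing.ResidueField C) (A ⧸ P) := Algebra.IsIntegral.isAlgebraic
  haveI : IsPurelyInseparable (IsLocalRing.ResidueField C) (A ⧸ P) :=
    Algebra.IsAlgebraic.isPurelyInseparable_of_isSepClosed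
  haveI : P.IsMaximal := Ideal.isMaximal_of_isIntegral_of_isMaximal_comap (R := C) P (by
    rw [← Ideal.under_def, ← Ideal.over_def P (IsLocalRing.maximalIdeal C)]
    exact IsLocalRing.maximalIdeal.isMaximal C)
  letI : Field (A ⧸ P) := Ideal.Quotient.field P
  haveI := instSubsingletonAlgHomOfIsPurelyInseparable (IsLocalRing.ResidueField C) (A ⧸ P) Ω
  have := Subsingleton.elim (lft x le_rfl) (lft x' h.le)
  exact AlgHom.ext fun a => AlgHom.congr_fun this (Ideal.Quotient.mk P a)

end points

section baseChange

variable (G : Type v) [Group G] {B A : Type u} [CommRing B] [CommRing A] [Algebra B A] [MulSemiringAction G A]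
  [SMulCommClass G B A] (C : Type u) [CommRing C] [Algebra B C]

/-- the action of a group element after base change -/
noncomputable def bcAct (g : G) : C ⊗[B] A →ₐ[C] C ⊗[B] A :=
  Algebra.TensorProduct.map (AlgHom.id C C) (MulSemiringAction.toAlgHom B A g)

omit [SMulCommClass G B A] in
variable {G C} in
@[simp]
theorem bcAct_tmul [SMulCommClass G B A] (g : G) (c : C) (a : A) : bcAct G C g (c ⊗ₜ[B] a) = c ⊗ₜ (g • a) := rfl

/-- the action after base change -/
noncomputable scoped instance bcAction : MulSemiringAction G (C ⊗[B] A) where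
  smul g z := bcAct G C g z
  one_smul z := by
    show bcAct G C 1 z = z
    induction z with
    | zero => exact map_zero _
    | tmul c a => simp
    | add x y hx hy => rw [map_add, hx, hy]
  mul_smul g h z := by
    show bcAct G C (g * h) z = bcAct G C g (bcAct G C h z)
    induction z with
    | zero => simp
    | tmul c a => simp [mul_smul]
    | add x y hx hy => rw [map_add, map_add, map_add, hx, hy]
  smul_zero g := map_zero (bcAct G C g)
  smul_add g := map_add (bcAct G C g)
  smul_one g := map_one (bcAct G C g)
  smul_mul g := map_mul (bcAct G C g)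

theorem bc_smul_def (g : G) (z : C ⊗[B] A) : g • z = bcAct G C g z := rfl

instance : SMulCommClass G C (C ⊗[B] A) := ⟨fun g c z => map_smul (bcAct G C g) c z⟩

/-- invariants commute with flat base change -/
theorem isInvariant_bc [Finite G] [Algebra.IsInvariant B A G] [Module.Flat B C] :
    Algebra.IsInvariant C (C ⊗[B] A) G := by
  classical
  cases nonempty_fintype G
  let d : A →ₗ[B] (G → A) :=
    LinearMap.pi fun g => (MulSemiringAction.toAlgHom B A g).toLinearMap - LinearMap.id
  have hd : Function.Exact (Algebra.linearMap B A) d := by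
    intro a
    constructor
    · intro h
      obtain ⟨b, hb⟩ := Algebra.IsInvariant.isInvariant (A := B) (G := G) a
        fun g => sub_eq_zero.1 (congrFun h g)
      exact ⟨b, hb⟩
    · rintro ⟨b, rfl⟩
      funext g
      exact sub_eq_zero.2 (smul_algebraMap g b)
  have hC := Module.Flat.lTensor_exact C hd
  refine ⟨fun z hz => ?_⟩
  have hpi : ∀ g, TensorProduct.piRight B C C (fun _ : G => A) (LinearMap.lTensor C d z) g = g • z - z := by
    intro g
    clear hz
    induction z with
    | zero => simp
    | tmul c a => simp [d, bc_smul_def, TensorProduct.tmul_sub]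
    | add x y hx hy => simp only [map_add, Pi.add_apply, smul_add, hx, hy]; abel
  obtain ⟨w, rfl⟩ := (hC z).1 <| (TensorProduct.piRight B C C (fun _ : G => A)).injective <| by
    rw [map_zero]
    funext g
    rw [hpi, hz, sub_self]
    rfl
  refine ⟨TensorProduct.rid B C w, ?_⟩
  clear hz hpi
  induction w with
  | zero => simp
  | tmul c b =>
    show (b • c) ⊗ₜ[B] (1 : A) = c ⊗ₜ algebraMap B A b
    rw [Algebra.algebraMap_eq_smul_one, TensorProduct.smul_tmul]
  | add x y hx hy => rw [map_add, map_add, map_add, hx, hy]

/-- flat base change of the inclusion of the invariants is injective -/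
theorem injective_bc [Module.Flat B C] (hinj : Function.Injective (algebraMap B A)) :
    Function.Injective (algebraMap C (C ⊗[B] A)) := by
  have h1 := Module.Flat.lTensor_preserves_injective_linearMap (M := C) (Algebra.linearMap B A) hinj
  intro c c' h
  have h2 : LinearMap.lTensor C (Algebra.linearMap B A) (c ⊗ₜ (1 : B)) =
      LinearMap.lTensor C (Algebra.linearMap B A) (c' ⊗ₜ (1 : B)) := by
    simpa using h
  have := congrArg (TensorProduct.rid B C) (h1 h2)
  simpa using this

end baseChange

end Groth.Agent.InvQuotSp
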