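import Groth.Agent.InvQuotSp.Coarse
import Groth.Agent.AlgStLib.QuotModuli
import Groth.Agent.FibCatRep.Cart

/-!
# Base change of coarse moduli spaces of quotient stacks
-/

set_option autoImplicit false
set_option backward.isDefEq.respectTransparency false
set_option backward.isDefEq.respectTransparency.types false
set_option linter.style.haveILetI false

universe w v u

noncomputable section

namespace Groth.Agent.InvQuotSp

open CategoryTheory CategoryTheory.Limits MonoidalCategory CartesianMonoidalCategory AlgebraicGeometry Opposite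
open _root_.AlgSp
open Groth.Agent.AlgStLib (secOf isoOfEq isoOfSec secOf_map secOf_comp)
open Groth.Agent.AlgStLib (qpt)
open Groth.Agent.AlgStLib.Quot (toSec)

variable {S : Scheme.{u}}

theorem res_res {F : (Over S)ᵒᵖ ⥤ Type (u + 1)} {A B C : Over S} (a : A = B) (b : B = C) (x : F.obj (op C)) :
    F.map (eqToHom a).op (F.map (eqToHom b).op x) = F.map (eqToHom (a.trans b)).op x := by
  subst a; subst b; simp

section points

variable {𝒳 : BasedCategory.{v, w} (Over S)} {M M' : Sp S} (g : M' ⟶ M) (π : 𝒳 ⥤ᵇ AlgSt.ofSp M)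

/-- the section of the second component of an object of the fibre product -/
theorem sec_snd (o : (FibCat.fp (AlgSt.ofSpMap g) π).obj) :
    M.obj.map o.obj.iso.hom.hom.op (π.obj o.obj.snd).sec = g.hom.app (op o.obj.fst.base) o.obj.fst.sec :=
  o.obj.iso.hom.map_sec

theorem iso_hom_eq (o : (FibCat.fp (AlgSt.ofSpMap g) π).obj) :
    ∃ h : o.obj.fst.base = (π.obj o.obj.snd).base, o.obj.iso.hom.hom = eqToHom h := by
  obtain ⟨h, he⟩ := Groth.Agent.FibCatRep.map_iso_hom o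
  exact ⟨h, he⟩

theorem fp_base_eq (o : (FibCat.fp (AlgSt.ofSpMap g) π).obj) : o.obj.fst.base = 𝒳.p.obj o.obj.snd :=
  (iso_hom_eq g π o).choose.trans (π.w_obj o.obj.snd)

/-- the compatibility of a pair of morphisms of the fibre product only concerns the bases -/
theorem fp_w (o o' : (FibCat.fp (AlgSt.ofSpMap g) π).obj) (a : o.obj.fst ⟶ o'.obj.fst) (b : o.obj.snd ⟶ o'.obj.snd)
    (h : a.hom ≫ eqToHom (fp_base_eq g π o') = eqToHom (fp_base_eq g π o) ≫ 𝒳.p.map b) :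
    (AlgSt.ofSpMap g).map a ≫ o'.obj.iso.hom = o.obj.iso.hom ≫ π.map b := by
  obtain ⟨hb, he⟩ := iso_hom_eq g π o
  obtain ⟨hb', he'⟩ := iso_hom_eq g π o'
  refine Stk.EltObj.hom_ext ?_
  rw [Stk.EltObj.comp_hom, Stk.EltObj.comp_hom, he, he', Groth.Agent.AlgStLib.hom_map π]
  have h' := congrArg (· ≫ eqToHom (π.w_obj o'.obj.snd).symm) h
  simp only [Category.assoc, eqToHom_trans] at h'
  refine h'.trans ?_
  simp

/-- bijectivity on geometric points is stable under base change -/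
theorem geomPtBij_fp (h : AlgSt.GeomPtBij π) : AlgSt.GeomPtBij (FibCat.fpFst (AlgSt.ofSpMap g) π) := by
  intro Ω _ _ t
  obtain ⟨hs, hi⟩ := h Ω t
  refine ⟨fun m => ?_, ?_⟩
  · obtain ⟨x, hx⟩ := hs (g.hom.app (op (Over.mk t)) m)
    let a : (AlgSt.ofSp M').obj := ⟨Over.mk t, m⟩
    have hb : Over.mk t = (π.obj x.1).base := ((π.w_obj x.1).trans x.2).symm
    let e : (AlgSt.ofSpMap g).obj a ≅ π.obj x.1 := isoOfEq hb hx
    let o : (FibCat.fp (AlgSt.ofSpMap g) π).obj :=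
      ⟨{ fst := a, snd := x.1, iso := e },
        IsHomLift.of_fac' (AlgSt.ofSp M).p (𝟙 _) _ rfl hb.symm (by
          show eqToHom hb = _
          simp)⟩
    exact ⟨⟨o, rfl⟩, FunctorToTypes.map_id_apply M'.obj m⟩
  · rintro ⟨o, ho⟩ ⟨o', ho'⟩ heq
    have hfst : o.obj.fst.base = Over.mk t := ho
    have hfst' : o'.obj.fst.base = Over.mk t := ho'
    change M'.obj.map (eqToHom hfst.symm).op o.obj.fst.sec = M'.obj.map (eqToHom hfst'.symm).op o'.obj.fst.sec at heq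
    obtain ⟨hb, he⟩ := iso_hom_eq g π o
    obtain ⟨hb', he'⟩ := iso_hom_eq g π o'
    have hsnd : 𝒳.p.obj o.obj.snd = Over.mk t := ((π.w_obj _).symm.trans hb.symm).trans hfst
    have hsnd' : 𝒳.p.obj o'.obj.snd = Over.mk t := ((π.w_obj _).symm.trans hb'.symm).trans hfst'
    have hfs : ∀ (p : (FibCat.fp (AlgSt.ofSpMap g) π).obj) (h₁ : p.obj.fst.base = Over.mk t)
        (h₂ : 𝒳.p.obj p.obj.snd = Over.mk t),
        AlgSt.fibSec π (⟨p.obj.snd, h₂⟩ : 𝒳.p.Fiber (Over.mk t)) =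
          g.hom.app (op (Over.mk t)) (M'.obj.map (eqToHom h₁.symm).op p.obj.fst.sec) := by
      intro p h₁ h₂
      obtain ⟨hp, hpe⟩ := iso_hom_eq g π p
      rw [NatTrans.naturality_apply g.hom (eqToHom h₁.symm).op p.obj.fst.sec, ← sec_snd g π p, hpe]
      show M.obj.map (eqToHom ((π.w_obj p.obj.snd).trans h₂).symm).op (π.obj p.obj.snd).sec = _
      exact (res_res _ _ _).symm
    obtain ⟨k⟩ := hi ⟨o.obj.snd, hsnd⟩ ⟨o'.obj.snd, hsnd'⟩ (by rw [hfs o hfst hsnd, hfs o' hfst' hsnd', heq])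
    have hk : 𝒳.p.map k.hom.1 = eqToHom (hsnd.trans hsnd'.symm) := by
      haveI := k.hom.2
      rw [IsHomLift.fac' 𝒳.p (𝟙 (Over.mk t)) k.hom.1]
      simp
    have hk' : 𝒳.p.map k.inv.1 = eqToHom (hsnd'.trans hsnd.symm) := by
      haveI := k.inv.2
      rw [IsHomLift.fac' 𝒳.p (𝟙 (Over.mk t)) k.inv.1]
      simp
    let f₁ : o.obj.fst ⟶ o'.obj.fst := (isoOfEq (hfst.trans hfst'.symm) (by
      have := congrArg (M'.obj.map (eqToHom hfst).op) heq
      rw [← Functor.map_comp_apply, ← Functor.map_comp_apply, ← op_comp, ← op_comp, eqToHom_trans, eqToHom_trans,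
        eqToHom_refl, op_id, Functor.map_id_apply] at this
      exact this.symm)).hom
    let f₂ : o'.obj.fst ⟶ o.obj.fst := (isoOfEq (hfst'.trans hfst.symm) (by
      have := congrArg (M'.obj.map (eqToHom hfst').op) heq
      rw [← Functor.map_comp_apply, ← Functor.map_comp_apply, ← op_comp, ← op_comp, eqToHom_trans, eqToHom_trans,
        eqToHom_refl, op_id, Functor.map_id_apply] at this
      exact this)).hom
    let m : o ⟶ o' := ObjectProperty.homMk
      { fst := f₁, snd := k.hom.1, w := Stk.EltObj.hom_ext (by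
          rw [Stk.EltObj.comp_hom, Stk.EltObj.comp_hom, he, he', Groth.Agent.AlgStLib.hom_map π, hk]
          simp [f₁, f₂, AlgSt.ofSpMap, Stk.ofPshMap]) }
    let m' : o' ⟶ o := ObjectProperty.homMk
      { fst := f₂, snd := k.inv.1, w := Stk.EltObj.hom_ext (by
          rw [Stk.EltObj.comp_hom, Stk.EltObj.comp_hom, he, he', Groth.Agent.AlgStLib.hom_map π, hk']
          simp [f₁, f₂, AlgSt.ofSpMap, Stk.ofPshMap]) }
    have h₁ : m ≫ m' = 𝟙 o := by
      apply ObjectProperty.hom_ext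
      apply CategoricalPullback.hom_ext
      · exact Stk.EltObj.hom_ext (by simp [m, m', f₁, f₂])
      · exact congrArg (fun j => j.1) k.hom_inv_id
    have h₂ : m' ≫ m = 𝟙 o' := by
      apply ObjectProperty.hom_ext
      apply CategoricalPullback.hom_ext
      · exact Stk.EltObj.hom_ext (by simp [m, m', f₁, f₂])
      · exact congrArg (fun j => j.1) k.inv_hom_id
    exact ⟨{ hom := Groth.Agent.FibCatRep.fibHom _ _ m rfl
             inv := Groth.Agent.FibCatRep.fibHom _ _ m' rfl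
             hom_inv_id := Functor.Fiber.hom_ext h₁
             inv_hom_id := Functor.Fiber.hom_ext h₂ }⟩

end points

section cat

variable {G X Y Y' P : Over S} [GrpObj G] {aX : AlgGrp.Action G X} [Flat G.hom] [LocallyOfFinitePresentation G.hom]
  (f : X ⟶ Y) (g : Y' ⟶ Y) {p₁ : P ⟶ Y'} {p₂ : P ⟶ X}

open Groth.Agent.AlgStLib.Quot

variable (π : AlgSt.QuotSt Scheme.fppfPrecoverage G aX ⥤ᵇ AlgSt.ofSch Y)
  (hπ : BasedFunctor.comp (AlgSt.quotMap Scheme.fppfPrecoverage G aX) π = AlgSt.ofSpMap ((yon S).map f))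

omit [Flat G.hom] [LocallyOfFinitePresentation G.hom] in
include hπ in
theorem kap_eq (w : p₁ ≫ g = p₂ ≫ f) :
    BasedFunctor.comp (AlgSt.ofSpMap ((yon S).map p₁)) (AlgSt.ofSpMap ((yon S).map g)) =
      BasedFunctor.comp (BasedFunctor.comp (AlgSt.ofSpMap ((yon S).map p₂))
        (AlgSt.quotMap Scheme.fppfPrecoverage G aX)) π := by
  show AlgSt.ofSpMap ((yon S).map p₁ ≫ (yon S).map g) =
    BasedFunctor.comp (AlgSt.ofSpMap ((yon S).map p₂)) (BasedFunctor.comp (AlgSt.quotMap Scheme.fppfPrecoverage G aX) π)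
  rw [hπ, ← Functor.map_comp, w, Functor.map_comp]
  rfl

/-- the functor from the pullback scheme to the base change of the quotient stack -/
def kap (w : p₁ ≫ g = p₂ ≫ f) : AlgSt.ofSch P ⥤ᵇ FibCat.fp (AlgSt.ofSpMap ((yon S).map g)) π :=
  FibCat.fpLift (AlgSt.ofSpMap ((yon S).map p₁)) (BasedFunctor.comp (AlgSt.ofSpMap ((yon S).map p₂))
      (AlgSt.quotMap Scheme.fppfPrecoverage G aX))
    (isoOfSec _ _ fun a => congrArg (fun Φ => secOf Φ a) (kap_eq f g π hπ w))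

omit [Flat G.hom] [LocallyOfFinitePresentation G.hom] in
theorem eqToHom_base {A₁ A₂ : AlgSt.QuotObj Scheme.fppfPrecoverage G aX} (ha : A₁ = A₂) :
    (eqToHom ha).base = eqToHom (congrArg AlgSt.QuotObj.base ha) := by
  subst ha; rfl

variable {f g π hπ} {N : Sp S} (φ : FibCat.fp (AlgSt.ofSpMap ((yon S).map g)) π ⥤ᵇ AlgSt.ofSp N)
  {w : p₁ ≫ g = p₂ ≫ f} (ψ : (yon S).obj P ⟶ N) (hψ : AlgSt.ofSpMap ψ = BasedFunctor.comp (kap f g π hπ w) φ)

include hψ in
theorem secOf_kap {T : Over S} (l : T ⟶ P) :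
    secOf φ ((kap f g π hπ w).obj (qpt T l)) = toSec ((yon S).map l ≫ ψ) := by
  have h₁ := congrArg (fun Ψ => secOf Ψ (qpt T l)) hψ
  simp only [secOf_comp] at h₁
  refine Eq.trans ?_ ((h₁.symm.trans (Groth.Agent.AlgStLib.secOf_ofPshMap ψ.hom _)).trans (toSec_comp ψ l).symm)
  exact (FunctorToTypes.map_id_apply _ _).symm

include hψ in
theorem kap_invariant (T : Over S) (l l' : T ⟶ P) (h : T ⟶ G) (h₁ : l ≫ p₁ = l' ≫ p₁)
    (h₂ : lift h (l ≫ p₂) ≫ aX.act = l' ≫ p₂) : (yon S).map l ≫ ψ = (yon S).map l' ≫ ψ := by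
  let κ := kap f g π hπ w
  have hκ : ∀ {T : Over S} (l : T ⟶ P), secOf φ (κ.obj (qpt T l)) = toSec ((yon S).map l ≫ ψ) := secOf_kap φ ψ hψ
  let A := (AlgSt.quotMap Scheme.fppfPrecoverage G aX).obj (qpt T (l ≫ p₂))
  let p : T ⟶ A.P := lift h (𝟙 T)
  have hpπ : p ≫ A.π = 𝟙 T := lift_snd _ _
  have hpφ : p ≫ A.φ = l' ≫ p₂ := by
    show lift h (𝟙 T) ≫ (G ◁ (l ≫ p₂)) ≫ aX.act = _
    rw [lift_whiskerLeft_assoc, Category.id_comp, h₂]
  obtain ⟨k₂, hk₂⟩ : ∃ k₂ : (κ.obj (qpt T l')).obj.snd ⟶ (κ.obj (qpt T l)).obj.snd, k₂.base = 𝟙 T := by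
    refine ⟨eqToHom (congrArg (fun x => (AlgSt.quotMap Scheme.fppfPrecoverage G aX).obj (qpt T x)) hpφ.symm) ≫
      trivHom A p, (AlgSt.QuotObj.comp_base _ _).trans ?_⟩
    show _ ≫ p ≫ A.π = _
    rw [eqToHom_base, hpπ]
    exact Category.comp_id _
  let k₁ : (κ.obj (qpt T l')).obj.fst ⟶ (κ.obj (qpt T l)).obj.fst := ⟨𝟙 T, by
    show ((yon S).obj Y').obj.map (𝟙 T).op _ = _
    rw [op_id, Functor.map_id_apply]
    exact ULift.ext _ _ h₁⟩
  let k : κ.obj (qpt T l') ⟶ κ.obj (qpt T l) := ObjectProperty.homMk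
    { fst := k₁, snd := k₂, w := fp_w ((yon S).map g) π (κ.obj (qpt T l')) (κ.obj (qpt T l)) k₁ k₂ (by
        show 𝟙 T ≫ eqToHom _ = eqToHom _ ≫ k₂.base
        rw [hk₂]
        exact (Category.id_comp _).trans (Category.comp_id _).symm) }
  have h₃ : N.obj.map (𝟙 T).op (secOf φ (κ.obj (qpt T l))) = secOf φ (κ.obj (qpt T l')) := secOf_map φ k
  have h₄ := (FunctorToTypes.map_id_apply N.obj (secOf φ (κ.obj (qpt T l)))).symm.trans h₃
  exact toSec_injective ((hκ l).symm.trans (h₄.trans (hκ l')))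

include hπ in
theorem torsor_comp (o : (FibCat.fp (AlgSt.ofSpMap ((yon S).map g)) π).obj) (A : AlgSt.QuotObj Scheme.fppfPrecoverage G aX)
    (hA : o.obj.snd = A) (hbA : o.obj.fst.base = A.base) :
    ((A.π ≫ eqToHom hbA.symm) ≫ o.obj.fst.sec.down) ≫ g = A.φ ≫ f := by
  subst hA
  let A : AlgSt.QuotObj Scheme.fppfPrecoverage G aX := o.obj.snd
  obtain ⟨hb, he⟩ := iso_hom_eq _ π o
  let t : A.P ⟶ o.obj.fst.base := A.π ≫ eqToHom hbA.symm
  let m : o.obj.fst.base ⟶ Y' := o.obj.fst.sec.down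
  let q := (AlgSt.quotMap Scheme.fppfPrecoverage G aX).obj (qpt A.P (𝟙 A.P ≫ A.φ))
  show (t ≫ m) ≫ g = A.φ ≫ f
  have hs := sec_snd _ π o
  rw [he] at hs
  have hq := secOf_map π (trivHom A (𝟙 A.P))
  have hq' : secOf π q = (⟨(𝟙 A.P ≫ A.φ) ≫ f⟩ : ULift.{u + 1} (A.P ⟶ Y)) := by
    have h₁ := congrArg (fun Ψ => secOf Ψ (qpt A.P (𝟙 A.P ≫ A.φ))) hπ
    simp only [secOf_comp] at h₁
    refine Eq.trans ?_ (h₁.trans (Groth.Agent.AlgStLib.secOf_ofPshMap _ _))
    exact (FunctorToTypes.map_id_apply _ _).symm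
  rw [hq'] at hq
  have h₄ : secOf π A = ((yon S).obj Y).obj.map (eqToHom hbA.symm).op
      (((yon S).map g).hom.app (op o.obj.fst.base) o.obj.fst.sec) := by
    rw [← hs]
    exact (res_res _ _ _).symm
  rw [h₄] at hq
  have h₅ := congrArg ULift.down hq
  change (𝟙 A.P ≫ A.π) ≫ eqToHom hbA.symm ≫ m ≫ g = (𝟙 A.P ≫ A.φ) ≫ f at h₅
  simpa [t] using h₅

include hψ in
theorem kap_factor (sq : IsPullback p₁ p₂ g f) (χ : (yon S).obj Y' ⟶ N) (hχ : (yon S).map p₁ ≫ χ = ψ)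
    (o : (FibCat.fp (AlgSt.ofSpMap ((yon S).map g)) π).obj) :
    secOf (BasedFunctor.comp (FibCat.fpFst (AlgSt.ofSpMap ((yon S).map g)) π) (AlgSt.ofSpMap χ)) o = secOf φ o := by
  let κ := kap f g π hπ w
  have hκ : ∀ {T : Over S} (l : T ⟶ P), secOf φ (κ.obj (qpt T l)) = toSec ((yon S).map l ≫ ψ) := secOf_kap φ ψ hψ
  let Φ := BasedFunctor.comp (FibCat.fpFst (AlgSt.ofSpMap ((yon S).map g)) π) (AlgSt.ofSpMap χ)
  show secOf Φ o = secOf φ o
  let A : AlgSt.QuotObj Scheme.fppfPrecoverage G aX := o.obj.snd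
  obtain ⟨hb, he⟩ := iso_hom_eq _ π o
  have hbA : o.obj.fst.base = A.base := hb.trans (π.w_obj A)
  let t : A.P ⟶ o.obj.fst.base := A.π ≫ eqToHom hbA.symm
  let m : o.obj.fst.base ⟶ Y' := o.obj.fst.sec.down
  let q := (AlgSt.quotMap Scheme.fppfPrecoverage G aX).obj (qpt A.P (𝟙 A.P ≫ A.φ))
  have hcomp : (t ≫ m) ≫ g = A.φ ≫ f := torsor_comp (hπ := hπ) o A rfl hbA
  let l : A.P ⟶ P := sq.lift (t ≫ m) A.φ hcomp
  obtain ⟨k₂, hk₂⟩ : ∃ k₂ : (κ.obj (qpt A.P l)).obj.snd ⟶ o.obj.snd, k₂.base = A.π := by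
    refine ⟨eqToHom (congrArg (fun x => (AlgSt.quotMap Scheme.fppfPrecoverage G aX).obj (qpt A.P x))
      ((sq.lift_snd _ _ hcomp).trans (Category.id_comp _).symm)) ≫ trivHom A (𝟙 A.P),
      (AlgSt.QuotObj.comp_base _ _).trans ?_⟩
    show _ ≫ 𝟙 A.P ≫ A.π = _
    rw [eqToHom_base]
    exact (Category.id_comp _).trans (Category.id_comp _)
  let k₁ : (κ.obj (qpt A.P l)).obj.fst ⟶ o.obj.fst := ⟨t, ULift.ext _ _ (sq.lift_fst _ _ hcomp).symm⟩
  let k : κ.obj (qpt A.P l) ⟶ o := ObjectProperty.homMk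
    { fst := k₁, snd := k₂, w := fp_w ((yon S).map g) π (κ.obj (qpt A.P l)) o k₁ k₂ (by
        show (A.π ≫ eqToHom hbA.symm) ≫ eqToHom _ = eqToHom _ ≫ k₂.base
        rw [hk₂, Category.assoc, eqToHom_trans]
        exact (Category.comp_id _).trans (Category.id_comp _).symm) }
  have h₆ := secOf_map φ k
  rw [hκ] at h₆
  have h₇ : N.obj.map t.op (secOf Φ o) = toSec ((yon S).map l ≫ ψ) := by
    rw [← hχ, ← Category.assoc, ← Functor.map_comp, sq.lift_fst, Functor.map_comp, Category.assoc, ← toSec_res]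
    refine congrArg (N.obj.map t.op) ?_
    exact (FunctorToTypes.map_id_apply _ _).trans (toSec_comp χ m).symm
  obtain ⟨a, ha⟩ := exists_toSec (secOf Φ o)
  obtain ⟨b, hb₂⟩ := exists_toSec (secOf φ o)
  rw [← ha, ← hb₂]
  refine congrArg toSec ?_
  haveI := epi_π A
  haveI : Epi ((yon S).map t) := by
    rw [show t = A.π ≫ eqToHom hbA.symm from rfl, Functor.map_comp]
    infer_instance
  rw [← cancel_epi ((yon S).map t)]
  apply toSec_injective
  exact (toSec_res a t).symm.trans ((congrArg (N.obj.map t.op) ha).trans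
    ((h₇.trans h₆.symm).trans ((congrArg (N.obj.map t.op) hb₂.symm).trans (toSec_res b t))))

include hψ in
theorem kap_unique (χ' : (yon S).obj Y' ⟶ N)
    (j : BasedFunctor.comp (FibCat.fpFst (AlgSt.ofSpMap ((yon S).map g)) π) (AlgSt.ofSpMap χ') ≅ φ) :
    (yon S).map p₁ ≫ χ' = ψ := by
  let κ := kap f g π hπ w
  have hκ : ∀ {T : Over S} (l : T ⟶ P), secOf φ (κ.obj (qpt T l)) = toSec ((yon S).map l ≫ ψ) := secOf_kap φ ψ hψ
  refine toSec_injective ?_
  have h₁ := congrArg (fun Ψ => secOf Ψ (qpt P (𝟙 P))) hψ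
  have h₂ := Groth.Agent.AlgStLib.secOf_congr j (κ.obj (qpt P (𝟙 P)))
  rw [hκ, show (yon S).map (𝟙 P) = 𝟙 _ from (yon S).map_id P, Category.id_comp] at h₂
  refine Eq.trans ?_ h₂
  refine Eq.trans ?_ (FunctorToTypes.map_id_apply _ _).symm
  rw [toSec_comp]
  show _ = χ'.hom.app (op P) (⟨𝟙 P ≫ p₁⟩ : ULift.{u + 1} (P ⟶ Y'))
  rw [Category.id_comp]


variable (f g π hπ)

include hπ in
/-- the base change of the moduli functor of a quotient stack is a categorical moduli space once the base change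
of the categorical quotient is one -/
theorem isCatModuli_fp (sq : IsPullback p₁ p₂ g f)
    (hcat : ∀ (N : AlgSp.Space S) (ψ : (yon S).obj P ⟶ N.obj),
      (∀ (T : Over S) (l l' : T ⟶ P) (h : T ⟶ G), l ≫ p₁ = l' ≫ p₁ → lift h (l ≫ p₂) ≫ aX.act = l' ≫ p₂ →
        (yon S).map l ≫ ψ = (yon S).map l' ≫ ψ) →
      ∃! χ : (yon S).obj Y' ⟶ N.obj, (yon S).map p₁ ≫ χ = ψ) :
    AlgSt.IsCatModuli (FibCat.fpFst (AlgSt.ofSpMap ((yon S).map g)) π) := by
  refine ⟨IsAlgSpace.yon_obj Y', fun N hN φ => ?_⟩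
  obtain ⟨ψ, hψ⟩ := exists_ofSpMap (BasedFunctor.comp (kap f g π hπ sq.w) φ)
  obtain ⟨χ, hχ, huniq⟩ := hcat ⟨N, hN⟩ ψ (kap_invariant φ ψ hψ)
  exact ⟨χ, ⟨isoOfSec _ _ (kap_factor φ ψ hψ sq χ hχ)⟩, fun χ' ⟨j⟩ => huniq χ' (kap_unique φ ψ hψ χ' j)⟩

end cat

end Groth.Agent.InvQuotSp

end
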