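import Groth.Agent.InvQuotSp.BaseChange

/-!
# Flat base change of coarse moduli spaces of quotient stacks by finite groups
-/

set_option autoImplicit false
set_option backward.isDefEq.respectTransparency false
set_option backward.isDefEq.respectTransparency.types false
set_option linter.style.haveILetI false

universe u

open CategoryTheory CategoryTheory.Limits MonoidalCategory CartesianMonoidalCategory AlgebraicGeometry Opposite
open scoped TensorProduct

namespace Groth.Agent.InvQuotSp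

open _root_.AlgSp Groth.Agent.AlgSpLib

section rebase

variable {S : Scheme.{u}} {B : Type u} [CommRing B] {σ : Spec (CommRingCat.of B) ⟶ S}

/-- the spectrum over an intermediate ring -/
noncomputable def rebaseIso (B' D : Type u) [CommRing B'] [CommRing D] [Algebra B B'] [Algebra B' D] [Algebra B D]
    [IsScalarTower B B' D] (σ' : Spec (CommRingCat.of B') ⟶ S)
    (h : σ' = Spec.map (CommRingCat.ofHom (algebraMap B B')) ≫ σ) : sp σ' D ≅ sp σ D :=
  Over.isoMk (Iso.refl _) (by
    show 𝟙 _ ≫ Spec.map _ ≫ σ = Spec.map _ ≫ σ'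
    rw [h, Category.id_comp, ← Category.assoc (Spec.map (CommRingCat.ofHom (algebraMap B' D))), ← Spec.map_comp,
      ← CommRingCat.ofHom_comp, ← IsScalarTower.algebraMap_eq])

theorem rebaseIso_comm {B' D E : Type u} [CommRing B'] [CommRing D] [CommRing E] [Algebra B B'] [Algebra B' D]
    [Algebra B D] [IsScalarTower B B' D] [Algebra B' E] [Algebra B E] [IsScalarTower B B' E]
    (σ' : Spec (CommRingCat.of B') ⟶ S) (h : σ' = Spec.map (CommRingCat.ofHom (algebraMap B B')) ≫ σ)
    (a : D →ₐ[B'] E) (b : D →ₐ[B] E) (hab : a.toRingHom = b.toRingHom) :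
    spMap σ' a ≫ (rebaseIso B' D σ' h).hom = (rebaseIso B' E σ' h).hom ≫ spMap σ b := by
  refine Over.OverMorphism.ext ?_
  show Spec.map (CommRingCat.ofHom a.toRingHom) ≫ 𝟙 _ = 𝟙 _ ≫ Spec.map (CommRingCat.ofHom b.toRingHom)
  rw [hab, Category.comp_id, Category.id_comp]

variable {A : Type u} [CommRing A] [Algebra B A] (G : Type u) [Group G] [Finite G] [MulSemiringAction G A]
  [SMulCommClass G B A]

/-- the categorical quotient after a flat base change of the invariants -/
theorem hcat_bc [IsAffine S] [Algebra.IsInvariant B A G] [Module.Finite B A]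
    (hinj : Function.Injective (algebraMap B A)) (B' : Type u) [CommRing B'] [Algebra B B'] [Module.Flat B B']
    {N : Sp S} (hN : IsAlgSpace N) (ψ : (yon S).obj (sp σ (B' ⊗[B] A)) ⟶ N)
    (hψ : ∀ g : G, (yon S).map (spMap σ ((bcAct G B' g).restrictScalars B)) ≫ ψ = ψ) :
    ∃! χ : (yon S).obj (sp σ B') ⟶ N,
      (yon S).map (spMap σ (Algebra.TensorProduct.includeLeft : B' →ₐ[B] B' ⊗[B] A)) ≫ χ = ψ := by
  haveI := isInvariant_bc G (B := B) (A := A) B'
  obtain ⟨σ', hσ⟩ : ∃ σ' : Spec (CommRingCat.of B') ⟶ S,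
      σ' = Spec.map (CommRingCat.ofHom (algebraMap B B')) ≫ σ := ⟨_, rfl⟩
  let eA : sp σ' (B' ⊗[B] A) ≅ sp σ (B' ⊗[B] A) := rebaseIso B' (B' ⊗[B] A) σ' hσ
  let eB : sp σ' B' ≅ sp σ B' := rebaseIso B' B' σ' hσ
  have hq : spMap σ' (Algebra.ofId B' (B' ⊗[B] A)) ≫ eB.hom =
      eA.hom ≫ spMap σ (Algebra.TensorProduct.includeLeft : B' →ₐ[B] B' ⊗[B] A) :=
    rebaseIso_comm σ' hσ _ _ (RingHom.ext fun _ => rfl)
  have hg : ∀ g, spMap σ' (MulSemiringAction.toAlgHom B' (B' ⊗[B] A) g) ≫ eA.hom =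
      eA.hom ≫ spMap σ ((bcAct G B' g).restrictScalars B) := fun g =>
    rebaseIso_comm σ' hσ _ _ (RingHom.ext fun _ => rfl)
  obtain ⟨χ, hχ, huniq⟩ := existsUnique_desc_inv G (injective_bc (A := A) B' hinj) hN ((yon S).map eA.hom ≫ ψ) fun g => by
    rw [← Category.assoc, ← Functor.map_comp, hg, Functor.map_comp, Category.assoc, hψ]
  refine ⟨(yon S).map eB.inv ≫ χ, ?_, fun χ' hχ' => ?_⟩
  · show _ ≫ _ ≫ χ = ψ
    rw [← cancel_epi ((yon S).map eA.hom), ← Category.assoc, ← Category.assoc, ← Functor.map_comp,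
      ← Functor.map_comp, ← hq, Category.assoc, Iso.hom_inv_id, Category.comp_id]
    exact hχ
  · rw [← cancel_epi ((yon S).map eB.hom), ← Category.assoc, ← Functor.map_comp, Iso.hom_inv_id, (yon S).map_id,
      Category.id_comp]
    refine huniq _ ?_
    show _ ≫ _ ≫ χ' = _
    rw [← Category.assoc, ← Functor.map_comp, hq, Functor.map_comp, Category.assoc, hχ']

omit [Finite G] [MulSemiringAction G A] [SMulCommClass G B A] [Algebra B A] in
/-- a flat affine scheme over the spectrum as the spectrum of an algebra -/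
theorem exists_spec_model {Y : Over S} [IsAffine Y.left] (g : Y ⟶ Over.mk σ) [Flat g.left] :
    ∃ (B' : Type u) (_ : CommRing B') (_ : Algebra B B') (_ : Module.Flat B B') (e : sp σ B' ≅ Y),
      e.hom.left ≫ g.left = Spec.map (CommRingCat.ofHom (algebraMap B B')) := by
  obtain ⟨φ, hφ⟩ := Spec.map_surjective (Y.left.isoSpec.inv ≫ g.left)
  letI : Algebra B Γ(Y.left, ⊤) := φ.hom.toAlgebra
  have h1 : Flat (Spec.map φ) := by rw [hφ]; infer_instance
  have hfl : Module.Flat B Γ(Y.left, ⊤) :=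
    RingHom.flat_algebraMap_iff.1 ((HasRingHomProperty.Spec_iff (P := @Flat)).1 h1)
  refine ⟨Γ(Y.left, ⊤), inferInstance, inferInstance, hfl, Over.isoMk Y.left.isoSpec.symm ?_, hφ.symm⟩
  show Y.left.isoSpec.inv ≫ Y.hom = Spec.map φ ≫ σ
  rw [hφ, Category.assoc]
  exact congrArg _ (Over.w g).symm

/-- flat affine base changes of the quotient map with their categorical quotient property -/
theorem exists_bc_quotient [IsAffine S] [Algebra.IsInvariant B A G] [Module.Finite B A]
    (hinj : Function.Injective (algebraMap B A)) {X Y : Over S} [IsAffine Y.left] (eA : sp σ A ≅ X)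
    (g : Y ⟶ Over.mk σ) [Flat g.left] (q : X ⟶ Over.mk σ)
    (hq : eA.hom.left ≫ q.left = Spec.map (CommRingCat.ofHom (algebraMap B A)))
    (act : G → (X ⟶ X)) (hact : ∀ γ, spMap σ (MulSemiringAction.toAlgHom B A γ) ≫ eA.hom = eA.hom ≫ act γ) :
    ∃ (P : Over S) (p₁ : P ⟶ Y) (p₂ : P ⟶ X), IsPullback p₁ p₂ g q ∧
      ∀ (N : AlgSp.Space S) (ψ : (yon S).obj P ⟶ N.obj),
        (∀ (γ : G) (l' : P ⟶ P), l' ≫ p₁ = p₁ → l' ≫ p₂ = p₂ ≫ act γ → (yon S).map l' ≫ ψ = ψ) →
        ∃! χ : (yon S).obj Y ⟶ N.obj, (yon S).map p₁ ≫ χ = ψ := by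
  obtain ⟨B', _, _, _, eY, heY⟩ := exists_spec_model g
  let inl : B' →ₐ[B] B' ⊗[B] A := Algebra.TensorProduct.includeLeft
  let inr : A →ₐ[B] B' ⊗[B] A := Algebra.TensorProduct.includeRight
  let p₁ : sp σ (B' ⊗[B] A) ⟶ Y := spMap σ inl ≫ eY.hom
  let p₂ : sp σ (B' ⊗[B] A) ⟶ X := spMap σ inr ≫ eA.hom
  have sq₀ : IsPullback p₁.left p₂.left g.left q.left := by
    refine (isPullback_spMap (σ := σ) B' A).of_iso (Iso.refl _) ((Over.forget _).mapIso eY) ((Over.forget _).mapIso eA)
      ((Over.forget _).mapIso (Over.isoMk (Iso.refl _) (by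
        show 𝟙 _ ≫ σ = Spec.map _ ≫ σ
        rw [Category.id_comp, show Spec.map (CommRingCat.ofHom (algebraMap B B)) = 𝟙 _ from Spec.map_id _,
          Category.id_comp]) : sp σ B ≅ Over.mk σ)) ?_ ?_ ?_ ?_
    · exact (Category.id_comp _).symm
    · exact (Category.id_comp _).symm
    · exact (Category.comp_id _).trans heY.symm
    · exact (Category.comp_id _).trans hq.symm
  have sq : IsPullback p₁ p₂ g q :=
    IsPullback.of_map (yon _) (Over.OverMorphism.ext sq₀.w) (isPullback_yon_iff.2 sq₀)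
  refine ⟨_, p₁, p₂, sq, fun N ψ hψ => ?_⟩
  obtain ⟨χ, hχ, huniq⟩ := hcat_bc G hinj B' N.property ψ fun γ => by
    refine hψ γ _ ?_ ?_
    · rw [← Category.assoc, ← spMap_comp]
      congr 2
      exact AlgHom.ext fun b => by show b ⊗ₜ[B] (γ • (1 : A)) = b ⊗ₜ 1; rw [smul_one]
    · rw [← Category.assoc, ← spMap_comp, bcAct_comp_includeRight, spMap_comp, Category.assoc, Category.assoc, hact]
  refine ⟨(yon _).map eY.inv ≫ χ, ?_, fun χ' hχ' => ?_⟩
  · show (yon _).map (spMap σ inl ≫ eY.hom) ≫ (yon _).map eY.inv ≫ χ = ψ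
    rw [← Category.assoc, ← Functor.map_comp, Category.assoc, Iso.hom_inv_id, Category.comp_id]
    exact hχ
  · rw [← cancel_epi ((yon _).map eY.hom), ← Category.assoc, ← Functor.map_comp, Iso.hom_inv_id, (yon _).map_id,
      Category.id_comp]
    refine huniq _ ?_
    show _ ≫ _ ≫ χ' = _
    rw [← Category.assoc, ← Functor.map_comp]
    exact hχ'

end rebase

/-- spectra in a tower of algebras -/
noncomputable def towerIso (R B A : Type u) [CommRing R] [CommRing B] [CommRing A] [Algebra R B] [Algebra R A]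
    [Algebra B A] [IsScalarTower R B A] :
    sp (Spec.map (CommRingCat.ofHom (algebraMap R B))) A ≅ Over.mk (Spec.map (CommRingCat.ofHom (algebraMap R A))) :=
  Over.isoMk (Iso.refl _) ((Category.id_comp _).trans (by
    show Spec.map (CommRingCat.ofHom (algebraMap R A)) = _
    rw [IsScalarTower.algebraMap_eq R B A, CommRingCat.ofHom_comp, Spec.map_comp]
    rfl))

theorem towerIso_left (R B A : Type u) [CommRing R] [CommRing B] [CommRing A] [Algebra R B] [Algebra R A]
    [Algebra B A] [IsScalarTower R B A] : (towerIso R B A).hom.left = 𝟙 _ := rfl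

variable (R : Type u) [CommRing R] (A : Type u) [CommRing A] [Algebra R A] [Algebra.FiniteType R A]
  (G : Type u) [Group G] [Fintype G] [DecidableEq G] [MulSemiringAction G A] [SMulCommClass G R A]

omit [Algebra.FiniteType R A] [Fintype G] [DecidableEq G] in
theorem quot_left : (ConstAct.quot R A G).left =
    Spec.map (CommRingCat.ofHom (algebraMap (ConstAct.inv R A G) A)) :=
  congrArg Spec.map (congrArg CommRingCat.ofHom (RingHom.ext fun b => rfl))

/-- coarse moduli spaces of quotient stacks by finite groups commute with flat affine base change -/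
theorem isCoarseModuli_bc
    (π : ConstAct.quotSt R A G Scheme.fppfPrecoverage ⥤ᵇ AlgSt.ofSch (ConstAct.specInv R A G))
    (hπ : BasedFunctor.comp (AlgSt.quotMap Scheme.fppfPrecoverage (ConstAct.GR R G) (ConstAct.gaction R A G)) π =
      AlgSt.ofSpMap ((AlgSp.yon (Spec (CommRingCat.of R))).map (ConstAct.quot R A G)))
    (Y' : Over (Spec (CommRingCat.of R))) [IsAffine Y'.left] (g : Y' ⟶ ConstAct.specInv R A G) [Flat g.left] :
    AlgSt.IsCoarseModuli (FibCat.fpFst (AlgSt.ofSpMap ((AlgSp.yon (Spec (CommRingCat.of R))).map g)) π) := by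
  haveI := flat_GR R G
  haveI := lfp_GR R G
  haveI := smulCommClass_inv R A G
  haveI := isInvariant_inv R A G
  haveI := finite_inv R A G
  refine ⟨?_, geomPtBij_fp _ π (isCoarseModuli_quot R A G π ⟨eqToIso hπ⟩).2⟩
  let eA : sp (Spec.map (CommRingCat.ofHom (algebraMap R (ConstAct.inv R A G)))) A ≅ ConstAct.X R A :=
    towerIso R ↥(ConstAct.inv R A G) A
  have hq : eA.hom.left ≫ (ConstAct.quot R A G).left =
      Spec.map (CommRingCat.ofHom (algebraMap (ConstAct.inv R A G) A)) := by
    show (towerIso R ↥(ConstAct.inv R A G) A).hom.left ≫ (ConstAct.quot R A G).left = _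
    rw [towerIso_left, quot_left]
    exact Category.id_comp _
  obtain ⟨P, p₁, p₂, sq, hcat⟩ := exists_bc_quotient G (injective_inv R A G) eA g (ConstAct.quot R A G)
    hq
    (fun γ => ConstAct.act R A G γ) (fun γ => Over.OverMorphism.ext ((Category.comp_id _).trans
      ((congrArg Spec.map (congrArg CommRingCat.ofHom (RingHom.ext fun b => rfl))).trans (Category.id_comp _).symm)))
  refine isCatModuli_fp (ConstAct.quot R A G) g π hπ sq fun N ψ hψ => hcat N ψ fun γ l' h₁ h₂ => ?_
  let c : ConstAct.X R A ⟶ ConstAct.GR R G := CoactBr.pt (ConstAct.constPt R G γ⁻¹ : ConstGrp.F R G →ₐ[R] A)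
  have e : lift c (𝟙 (ConstAct.X R A)) ≫ (ConstAct.gaction R A G).act = ConstAct.act R A G γ := by
    refine Eq.trans ?_ ((ConstAct.gaction_constPt R A G γ⁻¹ (AlgHom.id R A)).trans ?_)
    · rw [CoactBr.pt_id]
    · rw [CoactBr.pt_id, inv_inv]
      exact Category.id_comp _
  have := hψ P (𝟙 P) l' (p₂ ≫ c) (by rw [Category.id_comp, h₁]) (by
    rw [Category.id_comp, h₂, ← e, ← Category.assoc p₂, comp_lift, Category.comp_id])
  rw [(yon _).map_id, Category.id_comp] at this
  exact this.symm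

end Groth.Agent.InvQuotSp
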