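import Groth.Agent.InvQuotSp.Strict
import Mathlib.LinearAlgebra.TensorProduct.Finiteness
import Mathlib.RingTheory.FinitePresentation

/-!
# Maps from finitely presented algebras into a strictly henselian base change come from etale stages
-/

set_option autoImplicit false
set_option linter.style.haveILetI false

universe u

open scoped TensorProduct
open IsLocalRing

namespace Groth.Agent.InvQuotSp

variable {B : Type u} [CommRing B] (A : Type u) [CommRing A] [Algebra B A]

/-- base change of a map of stages -/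
noncomputable abbrev stMap {E E' : Type u} [CommRing E] [CommRing E'] [Algebra B E] [Algebra B E']
    (θ : E →ₐ[B] E') : E ⊗[B] A →ₐ[B] E' ⊗[B] A :=
  Algebra.TensorProduct.map θ (AlgHom.id B A)

theorem stMap_comp {E E' E'' : Type u} [CommRing E] [CommRing E'] [CommRing E''] [Algebra B E] [Algebra B E']
    [Algebra B E''] (θ : E →ₐ[B] E') (θ' : E' →ₐ[B] E'') (z : E ⊗[B] A) :
    stMap A θ' (stMap A θ z) = stMap A (θ'.comp θ) z := by
  induction z with
  | zero => simp
  | tmul e a => rfl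
  | add x y hx hy => simp only [map_add, hx, hy]

variable {A} {Ω : Type u} [Field Ω] [Algebra B Ω] (s : StrictPt B Ω)

/-- tensors over the strictly henselian ring come from an etale stage -/
theorem StrictPt.exists_stage_tensor {n : ℕ} (z : Fin n → s.C ⊗[B] A) :
    ∃ (E : Type u) (_ : CommRing E) (_ : Algebra B E) (_ : Algebra.Etale B E) (θ : E →ₐ[B] s.C),
      ∀ k, ∃ y, stMap A θ y = z k := by
  classical
  choose S hS using fun k => TensorProduct.exists_finset (z k)
  let T : Finset s.C := Finset.univ.biUnion fun k => (S k).image Prod.fst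
  obtain ⟨E, _, _, _, θ, hθ⟩ := s.exists_stage fun j => (T.equivFin.symm j).1
  refine ⟨E, inferInstance, inferInstance, inferInstance, θ, fun k => ?_⟩
  show z k ∈ (stMap A θ).range
  rw [hS k]
  refine Subalgebra.sum_mem _ fun i hi => ?_
  have hiT : i.1 ∈ T := Finset.mem_biUnion.2 ⟨k, Finset.mem_univ k, Finset.mem_image_of_mem _ hi⟩
  obtain ⟨e, he⟩ := hθ (T.equivFin ⟨i.1, hiT⟩)
  rw [Equiv.symm_apply_apply] at he
  exact ⟨e ⊗ₜ i.2, by show θ e ⊗ₜ[B] i.2 = _; rw [he]⟩

variable (A) in
/-- finitely many tensors over a stage vanishing in the limit vanish at a further stage -/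
theorem StrictPt.exists_kill {E : Type u} [CommRing E] [Algebra B E] [Algebra.Etale B E] (θ : E →ₐ[B] s.C)
    {n : ℕ} (y : Fin n → E ⊗[B] A) (hy : ∀ k, stMap A θ (y k) = 0) :
    ∃ (E' : Type u) (_ : CommRing E') (_ : Algebra B E') (_ : Algebra.Etale B E') (θ' : E' →ₐ[B] s.C)
      (ρ : E →ₐ[B] E'), θ'.comp ρ = θ ∧ ∀ k, stMap A ρ (y k) = 0 := by
  classical
  letI : Algebra E s.C := θ.toRingHom.toAlgebra
  haveI : IsScalarTower B E s.C := IsScalarTower.of_algebraMap_eq fun r => (θ.commutes r).symm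
  have hk : ∀ k, ∃ f : E, IsUnit (θ f) ∧ f • y k = 0 := fun k => by
    refine s.exists_smul_eq_zero E (E ⊗[B] A) (y k) ((TensorProduct.AlgebraTensorModule.cancelBaseChange B E s.C s.C A).injective ?_)
    rw [map_zero]
    refine Eq.trans ?_ (hy k)
    induction y k with
    | zero => simp
    | tmul e a =>
      rw [TensorProduct.AlgebraTensorModule.cancelBaseChange_tmul]
      exact congrArg (· ⊗ₜ[B] a) ((Algebra.smul_def e (1 : s.C)).trans (mul_one _))
    | add x x' hx hx' => simp only [TensorProduct.tmul_add, map_add, hx, hx']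
  choose f hf hfy using hk
  have hF : IsUnit (θ (∏ k, f k)) := by
    rw [map_prod]
    exact IsUnit.prod_univ_iff.2 hf
  let E' := Localization.Away (∏ k, f k)
  let ρ : E →ₐ[B] E' := IsScalarTower.toAlgHom B E E'
  refine ⟨E', inferInstance, inferInstance, inferInstance,
    IsLocalization.Away.liftAlgHom (∏ k, f k) (f := θ) hF, ρ,
    AlgHom.ext fun e => IsLocalization.Away.lift_eq (∏ k, f k) hF e, fun k => ?_⟩
  have h1 : stMap A ρ ((∏ j, f j) • y k) = ρ (∏ j, f j) • stMap A ρ (y k) := by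
    induction y k with
    | zero => simp
    | tmul e a =>
      show stMap A ρ (((∏ j, f j) * e) ⊗ₜ a) = ρ (∏ j, f j) • (ρ e ⊗ₜ a)
      simp [TensorProduct.smul_tmul']
    | add x x' hx hx' => simp only [smul_add, map_add, hx, hx']
  have h2 : (∏ j, f j) • y k = 0 := by
    rw [← Finset.mul_prod_erase Finset.univ f (Finset.mem_univ k), mul_comm, mul_smul, hfy, smul_zero]
  rw [h2, map_zero] at h1
  exact (IsLocalization.Away.algebraMap_isUnit (S := E') (∏ j, f j)).smul_left_cancel.1
    (h1.symm.trans (smul_zero _).symm)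

/-- maps out of finitely presented algebras into the limit come from an etale stage -/
theorem StrictPt.exists_stage_hom {V : Type u} [CommRing V] [Algebra A V] [Algebra.FinitePresentation A V]
    (μ : V →+* s.C ⊗[B] A) (hμ : ∀ a, μ (algebraMap A V a) = 1 ⊗ₜ a) :
    ∃ (E : Type u) (_ : CommRing E) (_ : Algebra B E) (_ : Algebra.Etale B E) (θ : E →ₐ[B] s.C)
      (ν : V →+* E ⊗[B] A), (∀ a, ν (algebraMap A V a) = 1 ⊗ₜ a) ∧ ∀ v, stMap A θ (ν v) = μ v := by
  classical
  obtain ⟨n, q, hq, hker⟩ := Algebra.FinitePresentation.out (R := A) (A := V)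
  obtain ⟨G, hG⟩ := hker
  obtain ⟨E₀, _, _, _, θ₀, hy⟩ := s.exists_stage_tensor fun i => μ (q (MvPolynomial.X i))
  choose y hy using hy
  let Φ : MvPolynomial (Fin n) A →+* E₀ ⊗[B] A :=
    MvPolynomial.eval₂Hom (Algebra.TensorProduct.includeRight : A →ₐ[B] E₀ ⊗[B] A).toRingHom y
  have hΦ : (stMap A θ₀).toRingHom.comp Φ = μ.comp q.toRingHom := by
    refine MvPolynomial.ringHom_ext (fun a => ?_) fun i => ?_
    · simp only [RingHom.comp_apply, Φ, MvPolynomial.eval₂Hom_C]
      show θ₀ 1 ⊗ₜ[B] a = μ (q (MvPolynomial.C a))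
      rw [map_one, ← MvPolynomial.algebraMap_eq, AlgHom.commutes, hμ]
    · simp only [RingHom.comp_apply, Φ, MvPolynomial.eval₂Hom_X']
      exact hy i
  obtain ⟨E, _, _, _, θ, ρ, hρ, hkill⟩ := s.exists_kill A θ₀ (fun j => Φ (G.equivFin.symm j).1) fun j => by
    rw [show stMap A θ₀ (Φ (G.equivFin.symm j).1) = μ (q (G.equivFin.symm j).1) from RingHom.congr_fun hΦ _,
      show q (G.equivFin.symm j).1 = 0 from RingHom.mem_ker.1 (hG ▸ Ideal.subset_span (G.equivFin.symm j).2),
      map_zero]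
  let Ψ : MvPolynomial (Fin n) A →+* E ⊗[B] A := (stMap A ρ).toRingHom.comp Φ
  have hle : RingHom.ker (q : MvPolynomial (Fin n) A →+* V) ≤ RingHom.ker Ψ := by
    show RingHom.ker q.toRingHom ≤ _
    rw [← hG, Ideal.span_le]
    intro g hg
    have := hkill (G.equivFin ⟨g, hg⟩)
    rw [Equiv.symm_apply_apply] at this
    exact this
  let ν : V →+* E ⊗[B] A := RingHom.liftOfSurjective (q : MvPolynomial (Fin n) A →+* V) hq ⟨Ψ, hle⟩
  have hν : ∀ p, ν (q p) = Ψ p := fun p => RingHom.liftOfRightInverse_comp_apply _ _ _ ⟨Ψ, hle⟩ p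
  refine ⟨E, inferInstance, inferInstance, inferInstance, θ, ν, fun a => ?_, fun v => ?_⟩
  · rw [← q.commutes, hν]
    simp only [Ψ, Φ, RingHom.comp_apply, MvPolynomial.algebraMap_eq, MvPolynomial.eval₂Hom_C]
    show ρ 1 ⊗ₜ[B] a = 1 ⊗ₜ a
    rw [map_one]
  · obtain ⟨p, rfl⟩ := hq v
    rw [hν]
    show stMap A θ (stMap A ρ (Φ p)) = _
    rw [stMap_comp, hρ]
    exact RingHom.congr_fun hΦ p

end Groth.Agent.InvQuotSp
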