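import Groth.Agent.InvQuotSp.Setup
import Groth.Agent.InvQuotSp.Stage
import Groth.Agent.HenselChart.Space
import Groth.Agent.Hensel.SemiLocalProd
import Groth.Agent.Hensel.Idempotent
import Mathlib.AlgebraicGeometry.Morphisms.Etale

/-!
# Invariant charts over a strictly henselian point
-/

set_option autoImplicit false
set_option backward.isDefEq.respectTransparency false
set_option backward.isDefEq.respectTransparency.types false
set_option linter.style.haveILetI false

universe u

open CategoryTheory CategoryTheory.Limits AlgebraicGeometry Opposite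
open scoped TensorProduct
open IsLocalRing

namespace Groth.Agent.InvQuotSp

open _root_.AlgSp Groth.Agent.AlgSpLib

variable {S : Scheme.{u}} {B : Type u} [CommRing B] {σ : Spec (CommRingCat.of B) ⟶ S}

/-- finite algebras over henselian local rings decompose -/
theorem bijective_pi_localization (C : Type u) [CommRing C] [HenselianLocalRing C] (D : Type u) [CommRing D]
    [Algebra C D] [Module.Finite C D] :
    Function.Bijective (RingHom.pi fun n : MaximalSpectrum D => algebraMap D (Localization.AtPrime n.asIdeal)) := by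
  haveI := Hensel.SemiLocalProd.finite_maximalSpectrum C D
  exact Hensel.SemiLocalProd.bijective_of_separated (Hensel.SemiLocalProd.separated_of_surjOn C
    (Hensel.bijOn_idempotents (A := C) (I := maximalIdeal C) D).surjOn)

/-- a product of etale charts as a single affine chart -/
theorem exists_pi_chart {A : Type u} [CommRing A] {W : Scheme.{u}} (b : W ⟶ Spec (CommRingCat.of A)) [Etale b]
    {ι : Type u} [Finite ι] (U : ι → W.Opens) (hU : ∀ i, IsAffineOpen (U i)) :
    ∃ (_ : Algebra A (∀ i, Γ(W, U i))) (v : Spec (CommRingCat.of (∀ i, Γ(W, U i))) ⟶ W),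
      Algebra.FinitePresentation A (∀ i, Γ(W, U i)) ∧
      v ≫ b = Spec.map (CommRingCat.ofHom (algebraMap A (∀ i, Γ(W, U i)))) ∧
      ∀ i, Spec.map (CommRingCat.ofHom (Pi.evalRingHom _ i)) ≫ v = (hU i).fromSpec := by
  let ρ : ∀ i, CommRingCat.of A ⟶ Γ(W, U i) := fun i => Spec.preimage ((hU i).fromSpec ≫ b)
  have hρ : ∀ i, Spec.map (ρ i) = (hU i).fromSpec ≫ b := fun i => Spec.map_preimage _
  letI algi : ∀ i, Algebra A Γ(W, U i) := fun i => (ρ i).hom.toAlgebra
  haveI : ∀ i, Algebra.Etale A Γ(W, U i) := fun i => by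
    have h1 : Etale (Spec.map (ρ i)) := by rw [hρ]; infer_instance
    have h2 : (ρ i).hom.Etale := (HasRingHomProperty.Spec_iff (P := @Etale)).1 h1
    exact h2
  let R : ι → CommRingCat.{u} := fun i => CommRingCat.of Γ(W, U i)
  refine ⟨inferInstance, inv (sigmaSpec R) ≫ Sigma.desc fun i => (hU i).fromSpec, inferInstance, ?_, fun i => ?_⟩
  · rw [← cancel_epi (sigmaSpec R), Category.assoc, IsIso.hom_inv_id_assoc]
    refine Sigma.hom_ext _ _ fun i => ?_
    rw [Sigma.ι_desc_assoc, reassoc_of% ι_sigmaSpec R i, ← hρ, ← Spec.map_comp]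
    rfl
  · rw [← ι_sigmaSpec R i, Category.assoc, IsIso.hom_inv_id_assoc, Sigma.ι_desc]

/-- a map from the spectrum of a local ring lands in any open containing the image of the closed point -/
theorem exists_affine_factor {W : Scheme.{u}} (R : Type u) [CommRing R] [IsLocalRing R]
    (s : Spec (CommRingCat.of R) ⟶ W) :
    ∃ (U : W.Opens) (hU : IsAffineOpen U) (μ : Γ(W, U) ⟶ CommRingCat.of R), Spec.map μ ≫ hU.fromSpec = s := by
  obtain ⟨U, hU, hmem, -⟩ := exists_isAffineOpen_mem_and_subset (U := ⊤) (x := s (closedPoint R)) trivial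
  have hr : Set.range s ⊆ Set.range hU.fromSpec := by
    rintro - ⟨t, rfl⟩
    rw [hU.range_fromSpec]
    exact ((IsLocalRing.specializes_closedPoint (R := R) t).map s.continuous).mem_open U.isOpen hmem
  obtain ⟨μ, hμ⟩ := Spec.map_surjective (IsOpenImmersion.lift hU.fromSpec s hr)
  exact ⟨U, hU, μ, by rw [hμ, IsOpenImmersion.lift_fac]⟩

variable {A : Type u} [CommRing A] [Algebra B A] (G : Type u) [Group G] [Finite G] [MulSemiringAction G A]
  [SMulCommClass G B A]

/-- the chart data over a strictly henselian point -/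
theorem exists_chart_data [Algebra.IsInvariant B A G] [Module.Finite B A] {N : Sp S} (hN : IsAlgSpace N)
    (ψ : (yon S).obj (sp σ A) ⟶ N) (hψ : IsInv σ G ψ) {Ω : Type u} [Field Ω] [Algebra B Ω] (s : StrictPt B Ω)
    (x₀ : s.C ⊗[B] A →ₐ[B] Ω) (hx₀ : ∀ c, x₀ (c ⊗ₜ 1) = s.pt c) :
    ∃ (Z : Over S) (_ : IsAffine Z.left) (p : (yon S).obj Z ⟶ N) (_ : RepWith @Etale p)
      (V : Type u) (_ : CommRing V) (_ : Algebra A V) (_ : Algebra B V) (_ : IsScalarTower B A V)
      (a : sp σ V ⟶ Z) (μ : V →+* s.C ⊗[B] A) (l₀ : Spec (CommRingCat.of Ω) ⟶ Z.left),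
      Algebra.FinitePresentation A V ∧
      (yon S).map a ≫ p = (yon S).map (spMap σ (IsScalarTower.toAlgHom B A V)) ≫ ψ ∧
      (∀ x, μ (algebraMap A V x) = 1 ⊗ₜ x) ∧
      ∀ γ : G, Spec.map (CommRingCat.ofHom ((x₀.toRingHom.comp (bcAct G s.C γ).toRingHom).comp μ)) ≫ a.left = l₀ := by
  classical
  let AC := s.C ⊗[B] A
  letI : Algebra s.C Ω := s.pt.toRingHom.toAlgebra
  let x : AC →ₐ[s.C] Ω :=
    { x₀.toRingHom with
      commutes' := fun c => hx₀ c }
  have hxker : RingHom.ker (algebraMap s.C Ω) = maximalIdeal s.C := s.ker_pt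
  haveI : Algebra.IsInvariant s.C AC G := isInvariant_bc G s.C
  have hmax : ∀ y : AC →ₐ[s.C] Ω, (RingHom.ker y).IsMaximal := fun y => by
    haveI : (RingHom.ker y).IsPrime := RingHom.ker_isPrime y
    refine Ideal.isMaximal_of_isIntegral_of_isMaximal_comap (R := s.C) _ ?_
    have : (RingHom.ker y).comap (algebraMap s.C AC) = maximalIdeal s.C := by
      rw [← hxker]; ext c; simp [RingHom.mem_ker]
    rw [this]
    exact maximalIdeal.isMaximal _
  -- translates of the point
  let pt : G → (AC →ₐ[s.C] Ω) := fun γ => x.comp (bcAct G s.C γ)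
  let m₀ : MaximalSpectrum AC := ⟨RingHom.ker x, hmax x⟩
  have hbij := bijective_pi_localization s.C AC
  haveI := Hensel.SemiLocalProd.finite_maximalSpectrum s.C AC
  have hAm : ∀ m : MaximalSpectrum AC, HenselianLocalRing (Localization.AtPrime m.asIdeal) := fun m => by
    haveI : Module.Finite s.C (Localization.AtPrime m.asIdeal) :=
      Module.Finite.of_surjective (IsScalarTower.toAlgHom s.C AC (Localization.AtPrime m.asIdeal)).toLinearMap
        fun z => by
          obtain ⟨w, hw⟩ := hbij.2 (Function.update (fun _ => 0) m z)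
          exact ⟨w, (congrFun hw m).trans (by rw [Function.update_self])⟩
    exact Hensel.henselianLocalRing_finite s.C _
  haveI := hAm
  let pr : ∀ m : MaximalSpectrum AC, A →ₐ[B] Localization.AtPrime m.asIdeal := fun m =>
    (IsScalarTower.toAlgHom B AC (Localization.AtPrime m.asIdeal)).comp Algebra.TensorProduct.includeRight
  obtain ⟨Z, p, g₀, hZ, hp, hg₀⟩ := HenselChart.exists_affine_chart_lift (Localization.AtPrime m₀.asIdeal)
    (sp σ (Localization.AtPrime m₀.asIdeal)).hom hN ((yon S).map (spMap σ (pr m₀)) ≫ ψ)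
  obtain ⟨W, fst, b, sq, hb⟩ := exists_repWith hp ψ
  obtain ⟨aW, rfl⟩ := exists_map_eq fst
  haveI : Etale b.left := hb
  -- translations
  have hg : ∀ m : MaximalSpectrum AC, ∃ g : G, m₀.asIdeal = m.asIdeal.comap (bcAct G s.C g).toRingHom := fun m => by
    haveI := m.isMaximal
    haveI := m₀.isMaximal
    have hu : ∀ n : MaximalSpectrum AC, n.asIdeal.under s.C = maximalIdeal s.C := fun n =>
      haveI := n.isMaximal
      IsLocalRing.eq_maximalIdeal (Ideal.isMaximal_comap_of_isIntegral_of_isMaximal (R := s.C) n.asIdeal)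
    obtain ⟨g, hg⟩ := Algebra.IsInvariant.exists_smul_of_under_eq s.C AC G m₀.asIdeal m.asIdeal
      ((hu m₀).trans (hu m).symm)
    refine ⟨g, Ideal.ext fun z => ?_⟩
    rw [Ideal.mem_comap, hg]
    exact (Ideal.smul_mem_pointwise_smul_iff (a := g)).symm
  choose g hg using hg
  let τ : ∀ m : MaximalSpectrum AC, Localization.AtPrime m₀.asIdeal →+* Localization.AtPrime m.asIdeal := fun m =>
    Localization.localRingHom m₀.asIdeal m.asIdeal (bcAct G s.C (g m)).toRingHom (hg m)
  have hτ : ∀ m z, τ m (algebraMap AC _ z) = algebraMap AC _ (bcAct G s.C (g m) z) := fun m z =>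
    Localization.localRingHom_to_map _ _ _ _ z
  let τa : ∀ m : MaximalSpectrum AC, Localization.AtPrime m₀.asIdeal →ₐ[B] Localization.AtPrime m.asIdeal := fun m =>
    { τ m with
      commutes' := fun r => by
        show τ m _ = _
        rw [IsScalarTower.algebraMap_apply B AC (Localization.AtPrime m₀.asIdeal), hτ,
          IsScalarTower.algebraMap_apply B AC (Localization.AtPrime m.asIdeal)]
        exact congrArg _ (((bcAct G s.C (g m)).restrictScalars B).commutes r) }
  have hτpr : ∀ m, (τa m).comp (pr m₀) = (pr m).comp (MulSemiringAction.toAlgHom B A (g m)) := fun m =>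
    AlgHom.ext fun r => (hτ m (1 ⊗ₜ r)).trans rfl
  have hc : ∀ m, (yon S).map (spMap σ (τa m) ≫ g₀) ≫ p = (yon S).map (spMap σ (pr m)) ≫ ψ := fun m => by
    rw [Functor.map_comp, Category.assoc, hg₀, ← Category.assoc, ← yon_spMap_comp, hτpr, yon_spMap_comp,
      Category.assoc, hψ]
  have hs : ∀ m : MaximalSpectrum AC, ∃ sm : sp σ (Localization.AtPrime m.asIdeal) ⟶ W,
      sm ≫ aW = spMap σ (τa m) ≫ g₀ ∧ sm ≫ b = spMap σ (pr m) := fun m => by
    obtain ⟨sm, hsm⟩ := exists_map_eq (sq.lift _ _ (hc m))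
    exact ⟨sm, (yon S).map_injective (by rw [Functor.map_comp, hsm, sq.lift_fst]),
      (yon S).map_injective (by rw [Functor.map_comp, hsm, sq.lift_snd])⟩
  choose sm hsa hsb using hs
  choose U hU μ hμ using fun m => exists_affine_factor (Localization.AtPrime m.asIdeal) (sm m).left
  obtain ⟨algV, v, hfp, hvb, hv⟩ := exists_pi_chart b.left U hU
  letI := algV
  let V := ∀ m, Γ(W.left, U m)
  letI : Algebra B V := ((algebraMap A V).comp (algebraMap B A)).toAlgebra
  haveI : IsScalarTower B A V := IsScalarTower.of_algebraMap_eq' rfl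
  have hvS : v ≫ W.hom = (sp σ V).hom := by
    rw [← Over.w b, reassoc_of% hvb]
    show Spec.map _ ≫ Spec.map _ ≫ σ = Spec.map _ ≫ σ
    rw [← Category.assoc, ← Spec.map_comp]
    rfl
  let vW : sp σ V ⟶ W := Over.homMk v hvS
  have hvWb : vW ≫ b = spMap σ (IsScalarTower.toAlgHom B A V) := Over.OverMorphism.ext hvb
  let e := RingEquiv.ofBijective _ hbij
  let μV : V →+* AC := e.symm.toRingHom.comp (RingHom.pi fun m => (μ m).hom.comp (Pi.evalRingHom _ m))
  have heval : ∀ m f, algebraMap AC (Localization.AtPrime m.asIdeal) (μV f) = (μ m).hom (f m) := fun m f =>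
    congrFun (e.apply_symm_apply (fun m => (μ m).hom (f m))) m
  have hμV : ∀ r, μV (algebraMap A V r) = 1 ⊗ₜ r := fun r => by
    refine hbij.1 (funext fun m => ?_)
    show algebraMap AC _ (μV (algebraMap A V r)) = algebraMap AC _ (1 ⊗ₜ r)
    rw [heval]
    have h1 : CommRingCat.ofHom ((Pi.evalRingHom _ m).comp (algebraMap A V)) ≫ μ m =
        CommRingCat.ofHom (pr m).toRingHom := by
      apply Spec.map_injective
      rw [Spec.map_comp, ← spMap_left (σ := σ), ← hsb m, CommRingCat.ofHom_comp, Spec.map_comp, ← hvb,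
        Over.comp_left, ← hμ m, ← hv m]
      simp only [Category.assoc]
    exact congr($h1 r)
  let x₀loc : Localization.AtPrime m₀.asIdeal →+* Ω :=
    IsLocalization.lift (M := m₀.asIdeal.primeCompl) (g := x.toRingHom) fun u => isUnit_iff_ne_zero.2 u.2
  refine ⟨Z, hZ, p, hp, V, inferInstance, algV, inferInstance, inferInstance, vW ≫ aW, μV,
    Spec.map (CommRingCat.ofHom x₀loc) ≫ g₀.left, hfp, ?_, hμV, fun γ => ?_⟩
  · rw [Functor.map_comp, Category.assoc, sq.w, ← Category.assoc, ← Functor.map_comp, hvWb]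
  -- the value at a translate
  let m : MaximalSpectrum AC := ⟨RingHom.ker (pt γ), hmax _⟩
  let xl : Localization.AtPrime m.asIdeal →+* Ω :=
    IsLocalization.lift (M := m.asIdeal.primeCompl) (g := (pt γ).toRingHom) fun u => isUnit_iff_ne_zero.2 u.2
  have hxl : ∀ z, xl (algebraMap AC _ z) = pt γ z := fun z => IsLocalization.lift_eq _ z
  have hfac : (x₀.toRingHom.comp (bcAct G s.C γ).toRingHom).comp μV =
      (xl.comp (μ m).hom).comp (Pi.evalRingHom _ m) := RingHom.ext fun f => by
    show pt γ (μV f) = xl ((μ m).hom (f m))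
    rw [← hxl, heval]
  have hker : (pt γ).comp (bcAct G s.C (g m)) = x := by
    refine point_eq_of_ker_eq hxker _ _ (Ideal.ext fun z => ?_)
    rw [show RingHom.ker x = m₀.asIdeal from rfl, hg m, Ideal.mem_comap]
    exact Iff.rfl
  have hloc : xl.comp (τ m) = x₀loc := IsLocalization.ringHom_ext m₀.asIdeal.primeCompl (RingHom.ext fun z => by
    show xl (τ m (algebraMap AC _ z)) = x₀loc (algebraMap AC _ z)
    rw [hτ, hxl]
    exact (AlgHom.congr_fun hker z).trans (IsLocalization.lift_eq _ z).symm)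
  rw [hfac, CommRingCat.ofHom_comp, CommRingCat.ofHom_comp, Spec.map_comp, Spec.map_comp, Category.assoc,
    Category.assoc, Over.comp_left]
  show _ ≫ _ ≫ _ ≫ v ≫ aW.left = _
  rw [reassoc_of% hv m, CommRingCat.ofHom_hom, reassoc_of% hμ m,
    show (sm m).left ≫ aW.left = Spec.map (CommRingCat.ofHom (τ m)) ≫ g₀.left from congrArg (fun k => k.left) (hsa m),
    ← Category.assoc, ← Spec.map_comp, ← CommRingCat.ofHom_comp, hloc]

end Groth.Agent.InvQuotSp
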