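import Groth.Agent.InvQuotSp.Const
import Groth.Agent.AlgStLib.QuotCoarse
import Groth.Prelude.Def_StCoarse

/-!
# Coarse moduli spaces of quotient stacks by finite groups
-/

set_option autoImplicit false
set_option backward.isDefEq.respectTransparency false
set_option backward.isDefEq.respectTransparency.types false
set_option linter.style.haveILetI false

universe u

open CategoryTheory CategoryTheory.Limits MonoidalCategory CartesianMonoidalCategory AlgebraicGeometry Opposite
open scoped TensorProduct

namespace Groth.Agent.InvQuotSp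

open _root_.AlgSp

section inv

variable (R : Type u) [CommRing R] (A : Type u) [CommRing A] [Algebra R A] (G : Type u) [Group G] [Finite G]
  [MulSemiringAction G A] [SMulCommClass G R A]

theorem smulCommClass_inv : SMulCommClass G (ConstAct.inv R A G) A :=
  ⟨fun g b a => by
    show g • ((b : A) * a) = (b : A) * g • a
    rw [smul_mul', b.2 g]⟩

omit [Finite G] in
theorem isInvariant_inv : Algebra.IsInvariant (ConstAct.inv R A G) A G :=
  ⟨fun a ha => ⟨⟨a, ha⟩, rfl⟩⟩

theorem finite_inv [Algebra.FiniteType R A] : Module.Finite (ConstAct.inv R A G) A := by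
  haveI := isInvariant_inv R A G
  haveI : Algebra.IsIntegral (ConstAct.inv R A G) A := Algebra.IsInvariant.isIntegral (ConstAct.inv R A G) A G
  haveI : Algebra.FiniteType (ConstAct.inv R A G) A :=
    Algebra.FiniteType.of_restrictScalars_finiteType R _ A
  exact Algebra.IsIntegral.finite

theorem injective_inv : Function.Injective (algebraMap (ConstAct.inv R A G) A) := Subtype.val_injective

/-- geometric points of the invariants lift and lifts are conjugate -/
theorem algHom_orbits (Ω : Type u) [Field Ω] [IsAlgClosed Ω] [Algebra R Ω] :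
    (∀ y : ↥(ConstAct.inv R A G) →ₐ[R] Ω, ∃ x : A →ₐ[R] Ω, x.comp (ConstAct.inv R A G).val = y) ∧
      ∀ x x' : A →ₐ[R] Ω, x.comp (ConstAct.inv R A G).val = x'.comp (ConstAct.inv R A G).val →
        ∃ g : G, x' = x.comp (MulSemiringAction.toAlgEquiv R A g : A →ₐ[R] A) := by
  haveI := isInvariant_inv R A G
  haveI : Algebra.IsIntegral (ConstAct.inv R A G) A := Algebra.IsInvariant.isIntegral (ConstAct.inv R A G) A G
  refine ⟨fun y => ?_, fun x x' h => ?_⟩
  · obtain ⟨x, hx⟩ := exists_point_lift (injective_inv R A G) y.toRingHom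
    refine ⟨{ x with commutes' := fun r => ?_ }, AlgHom.ext fun b => RingHom.congr_fun hx b⟩
    show x (algebraMap R A r) = _
    rw [IsScalarTower.algebraMap_apply R (ConstAct.inv R A G) A, ← y.commutes r]
    exact RingHom.congr_fun hx _
  · obtain ⟨g, hg⟩ := exists_smul_eq_of_comp_eq (B := ConstAct.inv R A G) G x.toRingHom x'.toRingHom
      (RingHom.ext fun b => AlgHom.congr_fun h b)
    exact ⟨g, AlgHom.ext fun a => hg a⟩

end inv

section tower

variable {R B A : Type u} [CommRing R] [CommRing B] [CommRing A] [Algebra R B] [Algebra R A] [Algebra B A]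
  [IsScalarTower R B A] (G : Type u) [Group G] [Finite G] [MulSemiringAction G A] [SMulCommClass G B A]

/-- the categorical quotient, for schemes over the spectrum of a base ring -/
theorem hcat_of_tower [Algebra.IsInvariant B A G] [Module.Finite B A] (hinj : Function.Injective (algebraMap B A))
    (q : Over.mk (Spec.map (CommRingCat.ofHom (algebraMap R A))) ⟶ Over.mk (Spec.map (CommRingCat.ofHom (algebraMap R B))))
    (hq : q.left = Spec.map (CommRingCat.ofHom (algebraMap B A)))
    (act : G → (Over.mk (Spec.map (CommRingCat.ofHom (algebraMap R A))) ⟶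
      Over.mk (Spec.map (CommRingCat.ofHom (algebraMap R A)))))
    (hact : ∀ g, (act g).left = Spec.map (CommRingCat.ofHom (MulSemiringAction.toRingHom G A g)))
    (N : Sp (Spec (CommRingCat.of R))) (hN : IsAlgSpace N)
    (ψ : (yon _).obj (Over.mk (Spec.map (CommRingCat.ofHom (algebraMap R A)))) ⟶ N)
    (hψ : ∀ g, (yon _).map (act g) ≫ ψ = ψ) :
    ∃! χ : (yon _).obj (Over.mk (Spec.map (CommRingCat.ofHom (algebraMap R B)))) ⟶ N, (yon _).map q ≫ χ = ψ := by
  let σ : Spec (CommRingCat.of B) ⟶ Spec (CommRingCat.of R) := Spec.map (CommRingCat.ofHom (algebraMap R B))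
  have htow : ∀ (D : Type u) [CommRing D] [Algebra R D] [Algebra B D] [IsScalarTower R B D],
      Spec.map (CommRingCat.ofHom (algebraMap B D)) ≫ σ = Spec.map (CommRingCat.ofHom (algebraMap R D)) := fun D _ _ _ _ => by
    rw [← Spec.map_comp, ← CommRingCat.ofHom_comp, ← IsScalarTower.algebraMap_eq]
  let eA : sp σ A ≅ Over.mk (Spec.map (CommRingCat.ofHom (algebraMap R A))) := Over.isoMk (Iso.refl _) (by
    exact (Category.id_comp _).trans (htow A).symm)
  let eB : sp σ B ≅ Over.mk (Spec.map (CommRingCat.ofHom (algebraMap R B))) := Over.isoMk (Iso.refl _) (by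
    exact (Category.id_comp _).trans (htow B).symm)
  have hAl : eA.hom.left = 𝟙 _ := rfl
  have hBl : eB.hom.left = 𝟙 _ := rfl
  have hq' : spMap σ (Algebra.ofId B A) ≫ eB.hom = eA.hom ≫ q := by
    refine Over.OverMorphism.ext ?_
    rw [Over.comp_left, Over.comp_left, hAl, hBl, hq, spMap_left]
    exact (Category.comp_id _).trans (Category.id_comp _).symm
  have hg : ∀ g, spMap σ (MulSemiringAction.toAlgHom B A g) ≫ eA.hom = eA.hom ≫ act g := fun g => by
    refine Over.OverMorphism.ext ?_
    rw [Over.comp_left, Over.comp_left, hAl, hact, spMap_left]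
    exact (Category.comp_id _).trans (Category.id_comp _).symm
  obtain ⟨χ, hχ, huniq⟩ := existsUnique_desc_inv G hinj hN ((yon _).map eA.hom ≫ ψ) fun g => by
    rw [← Category.assoc, ← Functor.map_comp, hg, Functor.map_comp, Category.assoc, hψ]
  refine ⟨(yon _).map eB.inv ≫ χ, ?_, fun χ' hχ' => ?_⟩
  · show (yon _).map q ≫ (yon _).map eB.inv ≫ χ = ψ
    rw [← cancel_epi ((yon _).map eA.hom), ← Category.assoc, ← Category.assoc, ← Functor.map_comp,
      ← Functor.map_comp, ← hq', Category.assoc, Iso.hom_inv_id, Category.comp_id]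
    exact hχ
  · rw [← cancel_epi ((yon _).map eB.hom), ← Category.assoc, ← Functor.map_comp, Iso.hom_inv_id, (yon _).map_id,
      Category.id_comp]
    refine huniq _ ?_
    show _ ≫ _ ≫ χ' = _
    rw [← Category.assoc, ← Functor.map_comp, hq', Functor.map_comp, Category.assoc, hχ']

end tower

variable (R : Type u) [CommRing R] (A : Type u) [CommRing A] [Algebra R A] [Algebra.FiniteType R A]
  (G : Type u) [Group G] [Fintype G] [DecidableEq G] [MulSemiringAction G A] [SMulCommClass G R A]

/-- the invariants give a categorical quotient among algebraic spaces -/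
theorem hcat_quot (N : AlgSp.Space (Spec (CommRingCat.of R))) (ψ : (yon _).obj (ConstAct.X R A) ⟶ N.obj)
    (hψ : (yon _).map (ConstAct.gaction R A G).act ≫ ψ =
      (yon _).map (snd (ConstAct.GR R G) (ConstAct.X R A)) ≫ ψ) :
    ∃! χ : (yon _).obj (ConstAct.specInv R A G) ⟶ N.obj, (yon _).map (ConstAct.quot R A G) ≫ χ = ψ := by
  haveI := smulCommClass_inv R A G
  haveI := isInvariant_inv R A G
  haveI := finite_inv R A G
  refine hcat_of_tower (B := ↥(ConstAct.inv R A G)) G (injective_inv R A G) (ConstAct.quot R A G) ?_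
    (fun g => ConstAct.act R A G g) (fun g => ?_) N.obj N.property ψ (act_invariant R G A ψ hψ)
  · show Spec.map _ = Spec.map _
    exact congrArg Spec.map (congrArg CommRingCat.ofHom (RingHom.ext fun b => rfl))
  · show Spec.map _ = Spec.map _
    exact congrArg Spec.map (congrArg CommRingCat.ofHom (RingHom.ext fun b => rfl))

omit [Algebra.FiniteType R A] in
/-- geometric fibres of the quotient are the orbits -/
theorem horb_quot (Ω : Type u) [Field Ω] [IsAlgClosed Ω] (t : Spec (CommRingCat.of Ω) ⟶ Spec (CommRingCat.of R)) :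
    (∀ y : Over.mk t ⟶ ConstAct.specInv R A G, ∃ x : Over.mk t ⟶ ConstAct.X R A, x ≫ ConstAct.quot R A G = y) ∧
    (∀ x x' : Over.mk t ⟶ ConstAct.X R A, x ≫ ConstAct.quot R A G = x' ≫ ConstAct.quot R A G →
      ∃ g : Over.mk t ⟶ ConstAct.GR R G, lift g x' ≫ (ConstAct.gaction R A G).act = x) := by
  obtain ⟨φ, rfl⟩ := Spec.map_surjective t
  letI : Algebra R Ω := φ.hom.toAlgebra
  have hpt : ∀ {D : Type u} [CommRing D] [Algebra R D] (y : CoactBr.sp R Ω ⟶ CoactBr.sp R D),
      ∃ f : D →ₐ[R] Ω, CoactBr.pt f = y := fun {D} _ _ y => by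
    obtain ⟨f, hf⟩ := Spec.map_surjective y.left
    have hw : CommRingCat.ofHom (algebraMap R D) ≫ f = CommRingCat.ofHom (algebraMap R Ω) :=
      Spec.map_injective (by rw [Spec.map_comp, hf]; exact Over.w y)
    exact ⟨{ f.hom with commutes' := fun r => congr($hw r) }, Over.OverMorphism.ext (by
      rw [CoactBr.pt_left]; exact hf)⟩
  obtain ⟨hs, ho⟩ := algHom_orbits R A G Ω
  refine ⟨fun y => ?_, fun x x' h => ?_⟩
  · obtain ⟨f, hf⟩ := hpt (D := ↥(ConstAct.inv R A G)) y
    obtain ⟨x, hx⟩ := hs f
    refine ⟨CoactBr.pt x, Eq.trans ?_ hf⟩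
    rw [← hx, CoactBr.pt_comp]
    rfl
  · obtain ⟨fx, rfl⟩ := hpt (D := A) x
    obtain ⟨fx', rfl⟩ := hpt (D := A) x'
    obtain ⟨g, hg⟩ := ho fx' fx (CoactBr.pt_injective (by
      rw [CoactBr.pt_comp, CoactBr.pt_comp]
      exact h.symm))
    refine ⟨CoactBr.pt (ConstAct.constPt R G g⁻¹), ?_⟩
    refine (ConstAct.gaction_constPt R A G g⁻¹ fx').trans ?_
    rw [inv_inv, ← ConstAct.pt_comp_toAlgEquiv, ← hg]

/-- the quotient stack of a finite group acting on an affine scheme has the spectrum of the invariants as coarse moduli -/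
theorem isCoarseModuli_quot (π : ConstAct.quotSt R A G Scheme.fppfPrecoverage ⥤ᵇ AlgSt.ofSch (ConstAct.specInv R A G))
    (hπ : Nonempty (BasedFunctor.comp (AlgSt.quotMap Scheme.fppfPrecoverage (ConstAct.GR R G) (ConstAct.gaction R A G)) π ≅
      AlgSt.ofSpMap ((AlgSp.yon (Spec (CommRingCat.of R))).map (ConstAct.quot R A G)))) :
    AlgSt.IsCoarseModuli π := by
  haveI := flat_GR R G
  haveI := lfp_GR R G
  exact AlgStLib.Quot.isCoarseModuli_of_orbits (ConstAct.quot R A G) (gaction_quot R G A) (horb_quot R A G)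
    (hcat_quot R A G) π hπ

end Groth.Agent.InvQuotSp
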