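import Groth.Agent.InvQuotSp.Global
import Groth.Prelude.Def_ConstAct2
import Mathlib.AlgebraicGeometry.AlgClosed.Basic

/-!
# The constant group scheme acting on an affine scheme
-/

set_option autoImplicit false
set_option backward.isDefEq.respectTransparency false
set_option backward.isDefEq.respectTransparency.types false
set_option linter.style.haveILetI false

universe u

open CategoryTheory CategoryTheory.Limits MonoidalCategory CartesianMonoidalCategory AlgebraicGeometry Opposite
open scoped TensorProduct

namespace Groth.Agent.InvQuotSp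

open _root_.AlgSp

variable (R : Type u) [CommRing R] (G : Type u) [Group G] [Fintype G] [DecidableEq G]

theorem isAffineHom_GR : IsAffineHom (ConstAct.GR R G).hom := by
  show IsAffineHom (Spec.map (CommRingCat.ofHom (algebraMap R (ConstGrp.F R G))))
  infer_instance

omit [Group G] [DecidableEq G] in
theorem finitePresentation_F : Algebra.FinitePresentation R (ConstGrp.F R G) :=
  show Algebra.FinitePresentation R (G → R) from inferInstance

theorem flat_GR : Flat (ConstAct.GR R G).hom :=
  (HasRingHomProperty.Spec_iff (P := @Flat)).2 (RingHom.flat_algebraMap_iff.2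
    (show Module.Flat R (G → R) from inferInstance))

theorem lfp_GR : LocallyOfFinitePresentation (ConstAct.GR R G).hom :=
  (HasRingHomProperty.Spec_iff (P := @LocallyOfFinitePresentation)).2
    (RingHom.finitePresentation_algebraMap.2 (finitePresentation_F R G))

variable (A : Type u) [CommRing A] [Algebra R A] [MulSemiringAction G A] [SMulCommClass G R A]

/-- the coaction fixes invariants -/
theorem coact_of_inv (b : A) (hb : ∀ g : G, g • b = b) : ConstAct.coactLin R A G b = b ⊗ₜ 1 := by
  rw [ConstAct.coactLin_apply]
  simp only [hb]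
  rw [← TensorProduct.tmul_sum, ConstGrp.sum_e]

/-- the quotient map is invariant under the constant group scheme -/
theorem gaction_quot : (ConstAct.gaction R A G).act ≫ ConstAct.quot R A G =
    snd (ConstAct.GR R G) (ConstAct.X R A) ≫ ConstAct.quot R A G := by
  let _ := ConstAct.comod R A G
  have _ := ConstAct.isCoactAlg R A G
  rw [ConstAct.gaction_eq]
  refine (CoactBr.action_act_comp_eq_iff (R := R) (A := ConstGrp.F R G) (B := A) (Y := ConstAct.specInv R A G)
    (ConstAct.quot R A G)).2 (Over.OverMorphism.ext ?_)
  rw [Over.comp_left, Over.comp_left, CoactBr.ract_left, Category.assoc]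
  show _ ≫ _ ≫ Spec.map _ = pullback.fst _ _ ≫ Spec.map _
  have key : CommRingCat.ofHom (ConstAct.inv R A G).val.toRingHom ≫
      CommRingCat.ofHom (GLin.coactAlgHom R (ConstGrp.F R G) A).toRingHom =
      CommRingCat.ofHom (ConstAct.inv R A G).val.toRingHom ≫
        CommRingCat.ofHom (Algebra.TensorProduct.includeLeftRingHom : A →+* A ⊗[R] ConstGrp.F R G) := by
    ext b
    exact coact_of_inv R G A b.1 b.2
  rw [← Spec.map_comp, key, Spec.map_comp, ← Category.assoc,
    show (Algebra.TensorProduct.includeLeftRingHom : A →+* A ⊗[R] ConstGrp.F R G) =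
      algebraMap A (A ⊗[R] ConstGrp.F R G) from rfl, pullbackSpecIso_hom_fst']

/-- invariance under the constant group scheme gives invariance under the elements of the group -/
theorem act_invariant {N : Sp (Spec (CommRingCat.of R))} (ψ : (yon _).obj (ConstAct.X R A) ⟶ N)
    (hψ : (yon _).map (ConstAct.gaction R A G).act ≫ ψ =
      (yon _).map (snd (ConstAct.GR R G) (ConstAct.X R A)) ≫ ψ) (g : G) :
    (yon _).map (ConstAct.act R A G g) ≫ ψ = ψ := by
  let L : ConstAct.X R A ⟶ ConstAct.GR R G ⊗ ConstAct.X R A :=
    lift (CoactBr.pt (ConstAct.constPt R G g⁻¹)) (CoactBr.pt (AlgHom.id R A))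
  have h := congrArg ((yon _).map L ≫ ·) hψ
  have e₁ : L ≫ (ConstAct.gaction R A G).act = ConstAct.act R A G g := by
    refine (ConstAct.gaction_constPt R A G g⁻¹ (AlgHom.id R A)).trans ?_
    rw [CoactBr.pt_id, inv_inv]
    exact Category.id_comp _
  have e₂ : L ≫ snd (ConstAct.GR R G) (ConstAct.X R A) = 𝟙 _ := (lift_snd _ _).trans CoactBr.pt_id
  simp only [← Category.assoc, ← Functor.map_comp, e₁, e₂] at h
  exact h.trans ((congrArg (· ≫ ψ) ((yon _).map_id _)).trans (Category.id_comp ψ))

end Groth.Agent.InvQuotSp
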