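import Groth.Agent.InvQuotSp.Setup
import Groth.Agent.AlgSpLib.DiagProp
import Mathlib.AlgebraicGeometry.Morphisms.Integral
import Mathlib.AlgebraicGeometry.Morphisms.Proper
import Mathlib.AlgebraicGeometry.Morphisms.UniversallyInjective

/-!
# Injective integral maps of rings are epimorphisms for algebraic spaces
-/

set_option autoImplicit false
set_option backward.isDefEq.respectTransparency false
set_option linter.style.haveILetI false

universe u

open CategoryTheory CategoryTheory.Limits AlgebraicGeometry Opposite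

namespace Groth.Agent.InvQuotSp

open _root_.AlgSp Groth.Agent.AlgSpLib

/-- monomorphisms locally of finite type to affine schemes split if they do after an injective integral ring map -/
theorem isIso_of_factor {E D : CommRingCat.{u}} (φ : E ⟶ D) (hφ : Function.Injective φ.hom) (hint : φ.hom.IsIntegral)
    {P : Scheme.{u}} (i : P ⟶ Spec E) [Mono i] [LocallyOfFiniteType i] (t : Spec D ⟶ P) (ht : t ≫ i = Spec.map φ) :
    IsIso i := by
  haveI : IsIntegralHom (Spec.map φ) := IsIntegralHom.SpecMap_iff.2 hint
  haveI : Surjective (Spec.map φ) := ⟨hint.comap_surjective hφ⟩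
  haveI : UniversallyClosed (t ≫ i) := by rw [ht]; infer_instance
  haveI : Surjective t := ⟨fun y => by
    obtain ⟨x, hx⟩ := (Spec.map φ).surjective (i y)
    refine ⟨x, i.injective ?_⟩
    rw [← Scheme.Hom.comp_apply, ht, hx]⟩
  haveI : UniversallyClosed i := UniversallyClosed.of_comp_surjective t i
  haveI : IsProper i := {}
  haveI : IsClosedImmersion i := (IsClosedImmersion.iff_isProper_and_mono i).2 ⟨‹_›, ‹_›⟩
  refine IsClosedImmersion.isIso_of_injective_of_isAffine ?_
  have h1 : Function.Injective (Spec.map φ).appTop := by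
    have h2 : (Spec.map φ).appTop = (Scheme.ΓSpecIso E).hom ≫ φ ≫ (Scheme.ΓSpecIso D).inv := by
      rw [Scheme.ΓSpecIso_inv_naturality, Iso.hom_inv_id_assoc]
    rw [h2]
    exact ((ConcreteCategory.bijective_of_isIso (Scheme.ΓSpecIso D).inv).1.comp hφ).comp
      (ConcreteCategory.bijective_of_isIso (Scheme.ΓSpecIso E).hom).1
  rw [← ht, Scheme.Hom.comp_appTop] at h1
  exact Function.Injective.of_comp h1

variable {S : Scheme.{u}} {B : Type u} [CommRing B] {σ : Spec (CommRingCat.of B) ⟶ S}

/-- maps to algebraic spaces are detected after injective integral maps of rings -/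
theorem ext_of_injective_integral {N : Sp S} (hN : IsAlgSpace N) {E D : Type u} [CommRing E] [CommRing D]
    [Algebra B E] [Algebra B D] (f : E →ₐ[B] D) (hf : Function.Injective f) (hint : f.toRingHom.IsIntegral)
    (χ₁ χ₂ : (yon S).obj (sp σ E) ⟶ N)
    (h : (yon S).map (spMap σ f) ≫ χ₁ = (yon S).map (spMap σ f) ≫ χ₂) : χ₁ = χ₂ := by
  obtain ⟨P, fst, snd, sq, hm⟩ := exists_repWith (repWith_diag_mono hN) (prod.lift χ₁ χ₂)
  haveI : LocallyOfFiniteType snd.left := (repWith_diag_lft hN).2 _ fst snd sq
  haveI : Mono snd.left := hm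
  obtain ⟨t, ht⟩ := exists_map_eq (sq.lift ((yon S).map (spMap σ f) ≫ χ₁) ((yon S).map (spMap σ f)) (by
    apply prod.hom_ext <;> simp [h]))
  have ht' : t ≫ snd = spMap σ f := (yon S).map_injective (by rw [Functor.map_comp, ht, sq.lift_snd])
  haveI : IsIso snd.left := isIso_of_factor (CommRingCat.ofHom f.toRingHom) hf hint snd.left t.left
    (congrArg (fun k => k.left) ht')
  haveI : IsIso ((Over.forget S).map snd) := ‹IsIso snd.left›
  haveI : IsIso snd := isIso_of_reflects_iso snd (Over.forget S)
  rw [← cancel_epi ((yon S).map snd)]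
  have w₁ := congrArg (· ≫ prod.fst) sq.w
  have w₂ := congrArg (· ≫ prod.snd) sq.w
  simp only [Category.assoc, prod.lift_fst, prod.lift_snd] at w₁ w₂
  exact w₁.symm.trans w₂

end Groth.Agent.InvQuotSp
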