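import Groth.Agent.InvQuotSp.Local
import Groth.Agent.InvQuotSp.Unique
import Groth.Agent.AlgSpLib.CoverDesc
import Mathlib.AlgebraicGeometry.Morphisms.UniversallyOpen
import Mathlib.Algebra.Category.Ring.Constructions

/-!
# Categorical quotients by finite groups among algebraic spaces
-/

set_option autoImplicit false
set_option backward.isDefEq.respectTransparency false
set_option backward.isDefEq.respectTransparency.types false
set_option linter.style.haveILetI false

universe u

open CategoryTheory CategoryTheory.Limits AlgebraicGeometry Opposite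
open scoped TensorProduct

namespace Groth.Agent.InvQuotSp

open _root_.AlgSp Groth.Agent.AlgSpLib

variable {S : Scheme.{u}}

/-- jointly surjective flat maps of finite presentation form an fppf cover -/
theorem isFppfCover_yon {ι : Type u} {T : Over S} (Y : ι → Over S) (g : ∀ i, Y i ⟶ T)
    (hfl : ∀ i, Flat (g i).left) (hfp : ∀ i, LocallyOfFinitePresentation (g i).left)
    (hs : ∀ x : T.left, ∃ i y, (g i).left y = x) :
    IsFppfCover (fun i => (yon S).obj (Y i)) (fun i => (yon S).map (g i)) := by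
  have hT : IsAlgSpace ((yon S).obj T) := IsAlgSpace.yon_obj _
  refine ⟨fun i => ?_, fun p => ?_⟩
  · have h₁ : RepWith @Flat ((yon S).map (g i)) := (repWith_yon_map_iff _ _).2 (hfl i)
    have h₂ : RepWith @LocallyOfFinitePresentation ((yon S).map (g i)) := (repWith_yon_map_iff _ _).2 (hfp i)
    exact ⟨(locP_iff_repWith etST_flat hT h₁.1).2 h₁, (locP_iff_repWith etST_lfp hT h₁.1).2 h₂⟩
  · obtain ⟨T₀, ξ, t, rfl⟩ := exists_ofPt p
    obtain ⟨φ, rfl⟩ := (yon S).map_surjective ξ
    obtain ⟨i, z, hz⟩ := hs (φ.left t)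
    refine ⟨i, Points.ofPt ((yon S).map (𝟙 (Y i))) z, ?_⟩
    rw [Points.map_ofPt, ← Functor.map_comp, Category.id_comp, ofScheme_map, ofScheme_map]
    exact congrArg _ hz

variable {B : Type u} [CommRing B] {σ : Spec (CommRingCat.of B) ⟶ S}

/-- spectra of tensor products are fibre products -/
theorem isPullback_spMap (E E' : Type u) [CommRing E] [CommRing E'] [Algebra B E] [Algebra B E'] :
    IsPullback (spMap σ (Algebra.TensorProduct.includeLeft : E →ₐ[B] E ⊗[B] E')).left
      (spMap σ (Algebra.TensorProduct.includeRight : E' →ₐ[B] E ⊗[B] E')).left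
      (spMap σ (Algebra.ofId B E)).left (spMap σ (Algebra.ofId B E')).left := by
  exact isPullback_SpecMap_of_isPushout _ _ _ _ (CommRingCat.isPushout_tensorProduct B E E')

variable {A : Type u} [CommRing A] [Algebra B A] (G : Type u) [Group G] [Finite G] [MulSemiringAction G A]
  [SMulCommClass G B A]

omit [Finite G] [SMulCommClass G B A] [MulSemiringAction G A] in
theorem comp_stMap_includeRight {E E' : Type u} [CommRing E] [CommRing E'] [Algebra B E] [Algebra B E']
    (ρ : E →ₐ[B] E') : (stMap A ρ).comp (Algebra.TensorProduct.includeRight : A →ₐ[B] E ⊗[B] A) =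
      Algebra.TensorProduct.includeRight :=
  AlgHom.ext fun z => by show ρ 1 ⊗ₜ[B] z = 1 ⊗ₜ z; rw [map_one]

omit [Finite G] [SMulCommClass G B A] [MulSemiringAction G A] in
/-- maps descended on two stages agree on their product -/
theorem desc_agree [IsAffine S] [Module.Finite B A] (hinj : Function.Injective (algebraMap B A))
    {N : Sp S} (hN : IsAlgSpace N) (ψ : (yon S).obj (sp σ A) ⟶ N) {E E' D : Type u} [CommRing E] [CommRing E']
    [CommRing D] [Algebra B E] [Algebra B E'] [Algebra B D] [Module.Flat B D] (i : E →ₐ[B] D) (j : E' →ₐ[B] D)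
    (χ : (yon S).obj (sp σ E) ⟶ N) (χ' : (yon S).obj (sp σ E') ⟶ N)
    (h : (yon S).map (spMap σ (Algebra.TensorProduct.includeLeft : E →ₐ[B] E ⊗[B] A)) ≫ χ =
      (yon S).map (spMap σ (Algebra.TensorProduct.includeRight : A →ₐ[B] E ⊗[B] A)) ≫ ψ)
    (h' : (yon S).map (spMap σ (Algebra.TensorProduct.includeLeft : E' →ₐ[B] E' ⊗[B] A)) ≫ χ' =
      (yon S).map (spMap σ (Algebra.TensorProduct.includeRight : A →ₐ[B] E' ⊗[B] A)) ≫ ψ) :
    (yon S).map (spMap σ i) ≫ χ = (yon S).map (spMap σ j) ≫ χ' := by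
  refine ext_of_injective_integral hN (Algebra.TensorProduct.includeLeft : D →ₐ[B] D ⊗[B] A)
    (injective_bc (A := A) D hinj) (algebraMap_isIntegral_iff.2 (inferInstance : Algebra.IsIntegral D (D ⊗[B] A))) _ _ ?_
  have key : ∀ {F : Type u} [CommRing F] [Algebra B F] (k : F →ₐ[B] D) (c : (yon S).obj (sp σ F) ⟶ N),
      (yon S).map (spMap σ (Algebra.TensorProduct.includeLeft : F →ₐ[B] F ⊗[B] A)) ≫ c =
        (yon S).map (spMap σ (Algebra.TensorProduct.includeRight : A →ₐ[B] F ⊗[B] A)) ≫ ψ →
      (yon S).map (spMap σ (Algebra.TensorProduct.includeLeft : D →ₐ[B] D ⊗[B] A)) ≫ (yon S).map (spMap σ k) ≫ c =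
        (yon S).map (spMap σ (Algebra.TensorProduct.includeRight : A →ₐ[B] D ⊗[B] A)) ≫ ψ := fun {F} _ _ k c hc => by
    rw [← Category.assoc, ← yon_spMap_comp,
      show (Algebra.TensorProduct.includeLeft : D →ₐ[B] D ⊗[B] A).comp k =
        (stMap A k).comp (Algebra.TensorProduct.includeLeft : F →ₐ[B] F ⊗[B] A) from
        AlgHom.ext fun z => rfl, yon_spMap_comp, Category.assoc, hc, ← Category.assoc, ← yon_spMap_comp,
      comp_stMap_includeRight]
  exact (key i χ h).trans (key j χ' h').symm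

/-- finitely many local descents cover -/
theorem exists_finite_local_desc [IsAffine S] [Algebra.IsInvariant B A G] [Module.Finite B A]
    (hinj : Function.Injective (algebraMap B A)) {N : Sp S} (hN : IsAlgSpace N)
    (ψ : (yon S).obj (sp σ A) ⟶ N) (hψ : IsInv σ G ψ) :
    ∃ (ι : Type u) (_ : Finite ι) (E : ι → Type u) (_ : ∀ i, CommRing (E i)) (_ : ∀ i, Algebra B (E i))
      (_ : ∀ i, Algebra.Etale B (E i)) (χ : ∀ i, (yon S).obj (sp σ (E i)) ⟶ N),
      (∀ x : PrimeSpectrum B, ∃ i, x ∈ Set.range (PrimeSpectrum.comap (algebraMap B (E i)))) ∧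
      ∀ i, (yon S).map (spMap σ (Algebra.TensorProduct.includeLeft : E i →ₐ[B] E i ⊗[B] A)) ≫ χ i =
        (yon S).map (spMap σ (Algebra.TensorProduct.includeRight : A →ₐ[B] E i ⊗[B] A)) ≫ ψ := by
  choose E hc halg het P χ hP hχ using exists_local_desc G hinj hN ψ hψ
  let := hc
  let := halg
  have hop : ∀ q : PrimeSpectrum B, IsOpen (Set.range (PrimeSpectrum.comap (algebraMap B (E q)))) := fun q => by
    haveI := het q
    exact (PrimeSpectrum.isOpenMap_comap_of_hasGoingDown_of_finitePresentation).isOpen_range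
  obtain ⟨t, ht⟩ := isCompact_univ.elim_finite_subcover _ hop fun q _ =>
    Set.mem_iUnion.2 ⟨q, P q, PrimeSpectrum.ext (hP q)⟩
  refine ⟨t, inferInstance, fun i => E i.1, fun i => hc i.1, fun i => halg i.1, fun i => het i.1, fun i => χ i.1,
    fun x => ?_, fun i => hχ i.1⟩
  obtain ⟨q, hq, hx⟩ := Set.mem_iUnion₂.1 (ht (Set.mem_univ x))
  exact ⟨⟨q, hq⟩, hx⟩

/-- the spectrum of the invariants is a categorical quotient among algebraic spaces -/
theorem existsUnique_desc_inv [IsAffine S] [Algebra.IsInvariant B A G] [Module.Finite B A]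
    (hinj : Function.Injective (algebraMap B A)) {N : Sp S} (hN : IsAlgSpace N)
    (ψ : (yon S).obj (sp σ A) ⟶ N) (hψ : IsInv σ G ψ) :
    ∃! χ : (yon S).obj (sp σ B) ⟶ N, (yon S).map (spMap σ (Algebra.ofId B A)) ≫ χ = ψ := by
  obtain ⟨ι, hι, E, hc, halg, het, χ, hcov, hχ⟩ := exists_finite_local_desc G hinj hN ψ hψ
  let g : ∀ i, sp σ (E i) ⟶ sp σ B := fun i => spMap σ (Algebra.ofId B (E i))
  have hfl : ∀ i, Flat (g i).left := fun i =>
    (HasRingHomProperty.Spec_iff (P := @Flat)).2 (RingHom.flat_algebraMap_iff.2 (inferInstance : Module.Flat B (E i)))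
  have hfp : ∀ i, LocallyOfFinitePresentation (g i).left := fun i =>
    (HasRingHomProperty.Spec_iff (P := @LocallyOfFinitePresentation)).2
      (RingHom.finitePresentation_algebraMap.2 (inferInstance : Algebra.FinitePresentation B (E i)))
  have hcover := isFppfCover_yon _ g hfl hfp fun x => by
    obtain ⟨i, y, hy⟩ := hcov x
    exact ⟨i, y, hy⟩
  obtain ⟨φ, hφ⟩ := exists_desc_of_fppfCover (IsAlgSpace.yon_obj _) (fun i => IsAlgSpace.yon_obj _) hcover χ
    fun i j => by
      have sq := isPullback_yon_iff.2 (isPullback_spMap (σ := σ) (E i) (E j))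
      haveI : Module.Flat B (E i ⊗[B] E j) := inferInstance
      have key := desc_agree hinj hN ψ (Algebra.TensorProduct.includeLeft : E i →ₐ[B] E i ⊗[B] E j)
        Algebra.TensorProduct.includeRight (χ i) (χ j) (hχ i) (hχ j)
      rw [← cancel_epi sq.isoPullback.hom, ← Category.assoc, ← Category.assoc, sq.isoPullback_hom_fst,
        sq.isoPullback_hom_snd]
      exact key
  have hint : (Algebra.ofId B A).toRingHom.IsIntegral :=
    algebraMap_isIntegral_iff.2 (inferInstance : Algebra.IsIntegral B A)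
  suffices hφA : (yon S).map (spMap σ (Algebra.ofId B A)) ≫ φ = ψ from
    ⟨φ, hφA, fun φ' hφ' => ext_of_injective_integral hN (Algebra.ofId B A) hinj hint _ _ (hφ'.trans hφA.symm)⟩
  refine hom_ext_of_fppfCover (g := fun i => (yon S).map
      (spMap σ (Algebra.TensorProduct.includeRight : A →ₐ[B] E i ⊗[B] A))) (IsAlgSpace.yon_obj _)
    (fun i => IsAlgSpace.yon_obj _) (isFppfCover_yon _ _ (fun i => ?_) (fun i => ?_) fun x => ?_) fun i => ?_
  · exact MorphismProperty.of_isPullback (P := @Flat) (isPullback_spMap (σ := σ) (E i) A) (hfl i)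
  · exact MorphismProperty.of_isPullback (P := @LocallyOfFinitePresentation) (isPullback_spMap (σ := σ) (E i) A) (hfp i)
  · obtain ⟨i, y, hy⟩ := hcov (PrimeSpectrum.comap (algebraMap B A) x)
    obtain ⟨z, hz⟩ := Scheme.Pullback.exists_preimage_pullback
      (f := (spMap σ (Algebra.ofId B (E i))).left) (g := (spMap σ (Algebra.ofId B A)).left) y x hy
    refine ⟨i, (isPullback_spMap (σ := σ) (E i) A).isoPullback.inv z, ?_⟩
    rw [← Scheme.Hom.comp_apply, IsPullback.isoPullback_inv_snd]
    exact hz.2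
  · rw [← Category.assoc, ← yon_spMap_comp,
      show (Algebra.TensorProduct.includeRight : A →ₐ[B] E i ⊗[B] A).comp (Algebra.ofId B A) =
        (Algebra.TensorProduct.includeLeft : E i →ₐ[B] E i ⊗[B] A).comp (Algebra.ofId B (E i)) from
        Subsingleton.elim _ _, yon_spMap_comp, Category.assoc, hφ i, hχ i]

end Groth.Agent.InvQuotSp
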