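import Groth.Agent.InvQuotSp.Chart
import Groth.Agent.InvQuotSp.Agree
import Mathlib.RingTheory.Spectrum.Prime.Topology

/-!
# Invariant maps descend etale locally on the invariants
-/

set_option autoImplicit false
set_option backward.isDefEq.respectTransparency false
set_option backward.isDefEq.respectTransparency.types false
set_option linter.style.haveILetI false

universe u

open CategoryTheory CategoryTheory.Limits AlgebraicGeometry Opposite
open scoped TensorProduct
open IsLocalRing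

namespace Groth.Agent.InvQuotSp

open _root_.AlgSp Groth.Agent.AlgSpLib

variable {S : Scheme.{u}} {B : Type u} [CommRing B] {σ : Spec (CommRingCat.of B) ⟶ S}
  {A : Type u} [CommRing A] [Algebra B A]

/-- finitely many open sets containing all primes over a point contain the preimage of a basic open -/
theorem exists_basicOpen_preimage {E D : Type u} [CommRing E] [CommRing D] [Algebra E D] [Algebra.IsIntegral E D]
    {ι : Type*} [Finite ι] (O : ι → TopologicalSpace.Opens (PrimeSpectrum D)) (p : PrimeSpectrum E)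
    (h : ∀ q : PrimeSpectrum D, q.asIdeal.comap (algebraMap E D) = p.asIdeal → ∀ i, q ∈ O i) :
    ∃ f : E, f ∉ p.asIdeal ∧ ∀ q : PrimeSpectrum D, algebraMap E D f ∉ q.asIdeal → ∀ i, q ∈ O i := by
  let K : Set (PrimeSpectrum D) := ⋃ i, (O i : Set (PrimeSpectrum D))ᶜ
  have hK : IsClosed K := isClosed_iUnion_of_finite fun i => (O i).isOpen.isClosed_compl
  have hc : IsClosed (PrimeSpectrum.comap (algebraMap E D) '' K) :=
    PrimeSpectrum.isClosedMap_comap_of_isIntegral _ (algebraMap_isIntegral_iff.2 inferInstance) _ hK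
  have hp : p ∈ (PrimeSpectrum.comap (algebraMap E D) '' K)ᶜ := by
    rintro ⟨q, hq, rfl⟩
    obtain ⟨i, hi⟩ := Set.mem_iUnion.1 hq
    exact hi (h q rfl i)
  obtain ⟨-, ⟨f, rfl⟩, hpf, hf⟩ :=
    PrimeSpectrum.isTopologicalBasis_basic_opens.exists_subset_of_mem_open hp hc.isOpen_compl
  refine ⟨f, (PrimeSpectrum.mem_basicOpen f p).1 hpf, fun q hq i => ?_⟩
  by_contra hi
  exact hf ((PrimeSpectrum.mem_basicOpen f (PrimeSpectrum.comap (algebraMap E D) q)).2 hq)
    ⟨q, Set.mem_iUnion.2 ⟨i, hi⟩, rfl⟩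

/-- ring maps fixed by an endomorphism of the spectrum -/
theorem map_fixed_of_spec_map {D : Type u} [CommRing D] (φ : D →+* D) {Z : Scheme.{u}} [IsAffine Z]
    (L : Spec (CommRingCat.of D) ⟶ Z) (lr : Γ(Z, ⊤) ⟶ CommRingCat.of D) (hlr : Spec.map lr = L ≫ Z.isoSpec.hom)
    (h : Spec.map (CommRingCat.ofHom φ) ≫ L = L) (z : Γ(Z, ⊤)) : φ (lr.hom z) = lr.hom z := by
  have h2 : lr ≫ CommRingCat.ofHom φ = lr := by
    apply Spec.map_injective
    rw [Spec.map_comp, hlr, reassoc_of% h]
  exact congr($h2 z)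

variable (G : Type u) [Group G] [Finite G] [MulSemiringAction G A] [SMulCommClass G B A]

/-- a map to an affine scheme over an invariant stage, invariant, descends to the invariants -/
theorem exists_desc_affine [IsAffine S] [Algebra.IsInvariant B A G] (hinj : Function.Injective (algebraMap B A))
    (E : Type u) [CommRing E] [Algebra B E] [Module.Flat B E] {Z : Over S} [IsAffine Z.left]
    (l : sp σ (E ⊗[B] A) ⟶ Z) (hl : ∀ g : G, spMap σ ((bcAct G E g).restrictScalars B) ≫ l = l) :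
    ∃ χ : sp σ E ⟶ Z, spMap σ (Algebra.TensorProduct.includeLeft : E →ₐ[B] E ⊗[B] A) ≫ χ = l := by
  haveI := isInvariant_bc G (B := B) (A := A) E
  obtain ⟨lr, hlr⟩ := Spec.map_surjective (l.left ≫ Z.left.isoSpec.hom)
  have hinv : ∀ (z : Γ(Z.left, ⊤)) (g : G), g • lr.hom z = lr.hom z := fun z g => by
    have h3 : (spMap σ ((bcAct G E g).restrictScalars B)).left ≫ l.left = l.left := by
      rw [← Over.comp_left, hl g]
    rw [spMap_left] at h3
    exact map_fixed_of_spec_map _ l.left lr hlr h3 z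
  have hint := injective_bc (B := B) (A := A) E hinj
  choose η hη using fun z => Algebra.IsInvariant.isInvariant (A := E) (G := G) (lr.hom z) (hinv z)
  let ηr : Γ(Z.left, ⊤) →+* E :=
    { toFun := η
      map_one' := hint (by rw [hη, map_one, map_one])
      map_mul' := fun a b => hint (by rw [map_mul (algebraMap E _), hη, hη, hη, map_mul])
      map_zero' := hint (by rw [hη, map_zero, map_zero])
      map_add' := fun a b => hint (by rw [map_add (algebraMap E _), hη, hη, hη, map_add]) }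
  let c : Spec (CommRingCat.of E) ⟶ Z.left := Spec.map (CommRingCat.ofHom ηr) ≫ Z.left.isoSpec.inv
  have hc : Spec.map (CommRingCat.ofHom (algebraMap E (E ⊗[B] A))) ≫ c = l.left := by
    rw [← cancel_mono Z.left.isoSpec.hom]
    simp only [c, Category.assoc, Iso.inv_hom_id, Category.comp_id]
    rw [← Spec.map_comp, ← hlr]
    congr 1
    ext z
    exact hη z
  have hcS : c ≫ Z.hom = (sp σ E).hom := by
    refine hom_ext_of_injective (CommRingCat.ofHom (algebraMap E (E ⊗[B] A))) hint _ _ ?_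
    rw [reassoc_of% hc, Over.w l]
    show Spec.map _ ≫ σ = Spec.map _ ≫ Spec.map _ ≫ σ
    rw [← Category.assoc, ← Spec.map_comp]
    rfl
  exact ⟨Over.homMk c hcS, Over.OverMorphism.ext hc⟩

/-- invariant maps descend near every point of the invariants, after an etale localisation -/
theorem exists_local_desc [IsAffine S] [Algebra.IsInvariant B A G] [Module.Finite B A]
    (hinj : Function.Injective (algebraMap B A)) {N : Sp S} (hN : IsAlgSpace N)
    (ψ : (yon S).obj (sp σ A) ⟶ N) (hψ : IsInv σ G ψ) (𝔭 : PrimeSpectrum B) :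
    ∃ (E : Type u) (_ : CommRing E) (_ : Algebra B E) (_ : Algebra.Etale B E)
      (P : PrimeSpectrum E) (χ : (yon S).obj (sp σ E) ⟶ N),
      P.asIdeal.comap (algebraMap B E) = 𝔭.asIdeal ∧
      (yon S).map (spMap σ (Algebra.TensorProduct.includeLeft : E →ₐ[B] E ⊗[B] A)) ≫ χ =
        (yon S).map (spMap σ (Algebra.TensorProduct.includeRight : A →ₐ[B] E ⊗[B] A)) ≫ ψ := by
  classical
  let Ω := AlgebraicClosure 𝔭.asIdeal.ResidueField
  obtain ⟨s⟩ := exists_strictPt B Ω
  haveI := isInvariant_bc G (B := B) (A := A) s.C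
  haveI : Algebra.IsIntegral s.C (s.C ⊗[B] A) := inferInstance
  obtain ⟨y₀, hy₀⟩ := exists_point_lift (A := s.C ⊗[B] A) (injective_bc (B := B) (A := A) s.C hinj) (Ω := Ω) s.pt.toRingHom
  let x₀ : s.C ⊗[B] A →ₐ[B] Ω :=
    { y₀ with
      commutes' := fun r => by
        show y₀ (algebraMap B s.C r ⊗ₜ 1) = _
        rw [← s.pt.commutes r]
        exact RingHom.congr_fun hy₀ _ }
  have hx₀ : ∀ c, x₀ (c ⊗ₜ 1) = s.pt c := fun c => RingHom.congr_fun hy₀ c
  obtain ⟨Z, hZ, p, hp, V, _, _, _, _, a, μ, l₀, hfp, hap, hμ, hval⟩ := exists_chart_data G hN ψ hψ s x₀ hx₀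
  haveI := hZ
  haveI := hfp
  obtain ⟨E, _, _, _, θ, ν, hνA, hνθ⟩ := s.exists_stage_hom μ hμ
  let νB : V →ₐ[B] E ⊗[B] A :=
    { ν with
      commutes' := fun r => by
        show ν _ = _
        rw [IsScalarTower.algebraMap_apply B A V, hνA]
        exact (Algebra.TensorProduct.includeRight : A →ₐ[B] E ⊗[B] A).commutes r }
  let l : sp σ (E ⊗[B] A) ⟶ Z := spMap σ νB ≫ a
  let inr : A →ₐ[B] E ⊗[B] A := Algebra.TensorProduct.includeRight
  have hlp : (yon S).map l ≫ p = (yon S).map (spMap σ inr) ≫ ψ := by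
    rw [Functor.map_comp, Category.assoc, hap, ← Category.assoc, ← yon_spMap_comp]
    congr 3
    exact AlgHom.ext fun r => hνA r
  let gl : G → (sp σ (E ⊗[B] A) ⟶ Z) := fun g => spMap σ ((bcAct G E g).restrictScalars B) ≫ l
  have hglp : ∀ g, (yon S).map (gl g) ≫ p = (yon S).map l ≫ p := fun g => by
    rw [Functor.map_comp, Category.assoc, hlp]
    exact hψ.bc E g
  choose O hO hOk using fun g => exists_agree_open hp (gl g) l (hglp g)
  -- primes over the point
  let xE : G → (E ⊗[B] A →+* Ω) := fun γ =>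
    (x₀.toRingHom.comp (stMap A θ).toRingHom).comp (bcAct G E γ).toRingHom
  have hxE : ∀ γ, Spec.map (CommRingCat.ofHom (xE γ)) ≫ l.left = l₀ := fun γ => by
    rw [Over.comp_left, spMap_left, ← Category.assoc, ← Spec.map_comp, ← CommRingCat.ofHom_comp, ← hval γ]
    congr 3
    ext f
    show x₀ (stMap A θ (bcAct G E γ (ν f))) = x₀ (bcAct G s.C γ (μ f))
    rw [← hνθ f, ← bcAct_stMap]
  let P₀ : PrimeSpectrum E := ⟨RingHom.ker (s.pt.comp θ).toRingHom, RingHom.ker_isPrime _⟩
  have hinvE : Algebra.IsInvariant E (E ⊗[B] A) G := isInvariant_bc G E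
  have hmem : ∀ q : PrimeSpectrum (E ⊗[B] A), q.asIdeal.comap (algebraMap E (E ⊗[B] A)) = P₀.asIdeal →
      ∀ g, q ∈ (show TopologicalSpace.Opens (PrimeSpectrum (E ⊗[B] A)) from O g) := by
    intro q hq g
    haveI := q.isPrime
    haveI : (RingHom.ker (xE 1)).IsPrime := RingHom.ker_isPrime _
    have hker : (RingHom.ker (xE 1)).under E = q.asIdeal.under E := by
      refine Eq.trans ?_ hq.symm
      ext e
      show xE 1 (e ⊗ₜ 1) = 0 ↔ s.pt (θ e) = 0
      rw [show xE 1 (e ⊗ₜ 1) = s.pt (θ e) from by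
        show x₀ (stMap A θ (bcAct G E 1 (e ⊗ₜ 1))) = _
        rw [← hx₀, bcAct_tmul, one_smul]
        rfl]
    obtain ⟨γ, hγ⟩ := Algebra.IsInvariant.exists_smul_of_under_eq E (E ⊗[B] A) G _ q.asIdeal hker
    have hq' : q.asIdeal = RingHom.ker (xE γ⁻¹) := by
      ext z
      rw [hγ, Ideal.mem_pointwise_smul_iff_inv_smul_mem, RingHom.mem_ker, RingHom.mem_ker]
      show x₀ (stMap A θ (bcAct G E 1 (γ⁻¹ • z))) = 0 ↔ _
      rw [← bc_smul_def, one_smul]
      exact Iff.rfl
    have key : Spec.map (CommRingCat.ofHom (xE γ⁻¹)) ≫ (gl g).left = Spec.map (CommRingCat.ofHom (xE γ⁻¹)) ≫ l.left := by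
      rw [hxE, Over.comp_left, spMap_left, ← Category.assoc, ← Spec.map_comp, ← CommRingCat.ofHom_comp,
        ← hxE (γ⁻¹ * g)]
      congr 3
      refine RingHom.ext fun z => ?_
      show x₀ (stMap A θ (bcAct G E γ⁻¹ (bcAct G E g z))) = x₀ (stMap A θ (bcAct G E (γ⁻¹ * g) z))
      rw [← bc_smul_def, ← bc_smul_def, ← bc_smul_def, mul_smul]
    have := hOk g _ key (closedPoint Ω)
    have e : (Spec.map (CommRingCat.ofHom (xE γ⁻¹))) (closedPoint Ω) =
        (show ↥(Spec (CommRingCat.of (E ⊗[B] A))) from q) := PrimeSpectrum.ext (by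
      show Ideal.comap (xE γ⁻¹) (maximalIdeal Ω) = q.asIdeal
      rw [maximalIdeal_eq_bot, hq']
      rfl)
    exact e ▸ this
  obtain ⟨f, hf, hfO⟩ := exists_basicOpen_preimage (E := E)
    (fun g => (show TopologicalSpace.Opens (PrimeSpectrum (E ⊗[B] A)) from O g)) P₀ hmem
  let E' := Localization.Away f
  let ρ : E →ₐ[B] E' := IsScalarTower.toAlgHom B E E'
  let r : sp σ (E' ⊗[B] A) ⟶ sp σ (E ⊗[B] A) := spMap σ (stMap A ρ)
  have hr : ∀ g, r ≫ gl g = r ≫ l := fun g => by
    refine Over.OverMorphism.ext ?_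
    have hrange : Set.range r.left ⊆ Set.range (O g).ι := by
      rintro - ⟨q, rfl⟩
      rw [Scheme.Opens.range_ι]
      refine hfO _ ?_ g
      show ¬ stMap A ρ (f ⊗ₜ 1) ∈ (q : PrimeSpectrum (E' ⊗[B] A)).asIdeal
      intro hmem
      refine (q : PrimeSpectrum (E' ⊗[B] A)).isPrime.ne_top (Ideal.eq_top_of_isUnit_mem _ hmem ?_)
      exact (IsLocalization.Away.algebraMap_isUnit (S := E') f).map
        (Algebra.TensorProduct.includeLeft : E' →ₐ[B] E' ⊗[B] A)
    show r.left ≫ (gl g).left = r.left ≫ l.left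
    rw [← IsOpenImmersion.lift_fac (O g).ι r.left hrange, Category.assoc, Category.assoc, hO]
  obtain ⟨χ, hχ⟩ := exists_desc_affine G hinj E' (r ≫ l) fun g => by
    rw [← Category.assoc, ← spMap_comp, show ((bcAct G E' g).restrictScalars B).comp (stMap A ρ) =
      (stMap A ρ).comp ((bcAct G E g).restrictScalars B) from AlgHom.ext fun z => (bcAct_stMap ρ g z).symm,
      spMap_comp, Category.assoc]
    exact hr g
  let θ' : E' →ₐ[B] Ω := IsLocalization.Away.liftAlgHom f (f := s.pt.comp θ) (isUnit_iff_ne_zero.2 hf)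
  refine ⟨E', inferInstance, inferInstance, inferInstance, ⟨RingHom.ker θ'.toRingHom, RingHom.ker_isPrime _⟩,
    (yon S).map χ ≫ p, ?_, ?_⟩
  · ext b
    show θ' (algebraMap B E' b) = 0 ↔ _
    rw [AlgHom.commutes, IsScalarTower.algebraMap_apply B 𝔭.asIdeal.ResidueField Ω,
      map_eq_zero_iff _ (algebraMap 𝔭.asIdeal.ResidueField Ω).injective]
    exact Ideal.algebraMap_residueField_eq_zero
  · rw [← Category.assoc, ← Functor.map_comp, hχ, Functor.map_comp, Category.assoc, hlp, ← Category.assoc,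
      ← yon_spMap_comp]
    congr 3
    exact AlgHom.ext fun z => by show ρ 1 ⊗ₜ[B] z = 1 ⊗ₜ z; rw [map_one]

end Groth.Agent.InvQuotSp
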