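import Groth.Agent.InvQuotSp.Base
import Groth.Agent.AlgSpLib.Space
import Mathlib.AlgebraicGeometry.AffineScheme

/-!
# Spectra of algebras over a ring as schemes over a base
-/

set_option autoImplicit false
set_option backward.isDefEq.respectTransparency false
set_option linter.style.haveILetI false

universe u

open CategoryTheory CategoryTheory.Limits AlgebraicGeometry Opposite
open scoped TensorProduct

namespace Groth.Agent.InvQuotSp

open _root_.AlgSp

variable {S : Scheme.{u}} {B : Type u} [CommRing B] (σ : Spec (CommRingCat.of B) ⟶ S)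

/-- the spectrum of an algebra, over the base through `σ` -/
noncomputable abbrev sp (R : Type u) [CommRing R] [Algebra B R] : Over S :=
  Over.mk (Spec.map (CommRingCat.ofHom (algebraMap B R)) ≫ σ)

variable {σ} {R R' R'' : Type u} [CommRing R] [CommRing R'] [CommRing R''] [Algebra B R] [Algebra B R'] [Algebra B R'']

variable (σ) in
/-- the map of spectra of an algebra map -/
noncomputable def spMap (f : R →ₐ[B] R') : sp σ R' ⟶ sp σ R :=
  Over.homMk (Spec.map (CommRingCat.ofHom f.toRingHom)) (by
    show Spec.map _ ≫ Spec.map _ ≫ σ = Spec.map _ ≫ σ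
    rw [← Category.assoc, ← Spec.map_comp, ← CommRingCat.ofHom_comp]
    congr 3
    exact f.comp_algebraMap)

@[simp]
theorem spMap_left (f : R →ₐ[B] R') : (spMap σ f).left = Spec.map (CommRingCat.ofHom f.toRingHom) := rfl

theorem spMap_comp (f : R →ₐ[B] R') (g : R' →ₐ[B] R'') : spMap σ (g.comp f) = spMap σ g ≫ spMap σ f := by
  ext : 1
  exact Spec.map_comp (CommRingCat.ofHom f.toRingHom) (CommRingCat.ofHom g.toRingHom)

theorem yon_spMap_comp (f : R →ₐ[B] R') (g : R' →ₐ[B] R'') :
    (yon S).map (spMap σ (g.comp f)) = (yon S).map (spMap σ g) ≫ (yon S).map (spMap σ f) := by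
  rw [spMap_comp, Functor.map_comp]

theorem spMap_id : spMap σ (AlgHom.id B R) = 𝟙 _ := by
  ext : 1
  exact Spec.map_id _

/-- maps to affine schemes are detected after injective maps of rings -/
theorem hom_ext_of_injective {P Q : CommRingCat.{u}} (φ : P ⟶ Q) (hφ : Function.Injective φ.hom)
    {T : Scheme.{u}} [IsAffine T] (a b : Spec P ⟶ T) (h : Spec.map φ ≫ a = Spec.map φ ≫ b) : a = b := by
  rw [← cancel_mono T.isoSpec.hom] at ⊢
  have h' := congrArg (· ≫ T.isoSpec.hom) h
  simp only [Category.assoc] at h'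
  obtain ⟨α, hα⟩ := Spec.map_surjective (a ≫ T.isoSpec.hom)
  obtain ⟨β, hβ⟩ := Spec.map_surjective (b ≫ T.isoSpec.hom)
  rw [← hα, ← hβ, ← Spec.map_comp, ← Spec.map_comp] at h'
  rw [← hα, ← hβ]
  congr 1
  ext x
  exact hφ (congr($(Spec.map_injective h') x))

section action

variable (G : Type u) [Group G] {A : Type u} [CommRing A] [Algebra B A] [MulSemiringAction G A] [SMulCommClass G B A]
variable (σ)

/-- invariance of a map out of the spectrum of the algebra -/
def IsInv {N : Sp S} (ψ : (yon S).obj (sp σ A) ⟶ N) : Prop :=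
  ∀ g : G, (yon S).map (spMap σ (MulSemiringAction.toAlgHom B A g)) ≫ ψ = ψ

variable {G} {σ}

/-- the base change of the action as maps of algebras over the base -/
theorem bcAct_comp_includeRight (E : Type u) [CommRing E] [Algebra B E] (g : G) :
    ((bcAct G E g).restrictScalars B).comp (Algebra.TensorProduct.includeRight : A →ₐ[B] E ⊗[B] A) =
      (Algebra.TensorProduct.includeRight : A →ₐ[B] E ⊗[B] A).comp (MulSemiringAction.toAlgHom B A g) :=
  AlgHom.ext fun _ => rfl

theorem bcAct_stMap {E E' : Type u} [CommRing E] [CommRing E'] [Algebra B E] [Algebra B E'] (θ : E →ₐ[B] E')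
    (g : G) (z : E ⊗[B] A) :
    Algebra.TensorProduct.map θ (AlgHom.id B A) (bcAct G E g z) =
      bcAct G E' g (Algebra.TensorProduct.map θ (AlgHom.id B A) z) := by
  induction z with
  | zero => simp
  | tmul e a => rfl
  | add x y hx hy => simp only [map_add, hx, hy]

theorem IsInv.bc {N : Sp S} {ψ : (yon S).obj (sp σ A) ⟶ N} (hψ : IsInv σ G ψ) (E : Type u) [CommRing E]
    [Algebra B E] (g : G) :
    (yon S).map (spMap σ ((bcAct G E g).restrictScalars B)) ≫
      (yon S).map (spMap σ (Algebra.TensorProduct.includeRight : A →ₐ[B] E ⊗[B] A)) ≫ ψ =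
      (yon S).map (spMap σ (Algebra.TensorProduct.includeRight : A →ₐ[B] E ⊗[B] A)) ≫ ψ := by
  rw [← Category.assoc, ← yon_spMap_comp, bcAct_comp_includeRight, yon_spMap_comp, Category.assoc, hψ g]

end action

end Groth.Agent.InvQuotSp
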